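import Cfsg.Agent.Lib.Helper4.TC.Perm
import Cfsg.Agent.Lib.Helper12.McLTC.Cod5
import Cfsg.Agent.Lib.Helper16.Co2OrdTC.M5Fin
import Cfsg.Agent.Lib.Helper16.Co2OrdTC.M5CM0
import Cfsg.Agent.Lib.Helper16.Co2OrdTC.M5CE0x0
import Cfsg.Agent.Lib.Helper16.Co2OrdTC.M5CE1x0
import Cfsg.Agent.Lib.Helper16.Co2OrdTC.M5CE2x0
import Cfsg.Agent.Lib.Helper16.Co2OrdTC.M5CE3x0
import Cfsg.Agent.Lib.Helper16.Co2OrdTC.M5CE4x0
import Cfsg.Agent.Lib.Helper16.Co2OrdTC.M5CE5x0
import Cfsg.Agent.Lib.Helper16.Co2OrdTC.M5CE6x0
import Cfsg.Agent.Lib.Helper16.Co2OrdTC.M5CE7x0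
import Cfsg.Agent.Lib.Helper16.Co2OrdTC.M5CE8x0
import Cfsg.Agent.Lib.Helper16.Co2OrdTC.M5CE9x0
import Cfsg.Agent.Lib.Helper16.Co2OrdTC.M5CF0

set_option autoImplicit false
set_option maxRecDepth 100000
set_option linter.unusedVariables false

namespace Cfsg.Agent.Lib.Helper16.Co2OrdTC.M5

open Cfsg.Agent.Helper4.TC

theorem allE0 : ∀ k, k < 512 → justE data 0 k = true := by
  intro k hk
  by_cases hh1 : k < 374
  · skip
    exact edgeRange_sound data 0 374 0 e0_c0 k (by omega) (by omega)
  · skip
    exact edgeRange_sound data 0 138 374 e0_c1 k (by omega) (by omega)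

theorem allE1 : ∀ k, k < 512 → justE data 1 k = true := by
  intro k hk
  by_cases hh1 : k < 374
  · skip
    exact edgeRange_sound data 1 374 0 e1_c0 k (by omega) (by omega)
  · skip
    exact edgeRange_sound data 1 138 374 e1_c1 k (by omega) (by omega)

theorem allE2 : ∀ k, k < 512 → justE data 2 k = true := by
  intro k hk
  by_cases hh1 : k < 374
  · skip
    exact edgeRange_sound data 2 374 0 e2_c0 k (by omega) (by omega)
  · skip
    exact edgeRange_sound data 2 138 374 e2_c1 k (by omega) (by omega)

theorem allE3 : ∀ k, k < 512 → justE data 3 k = true := by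
  intro k hk
  by_cases hh1 : k < 374
  · skip
    exact edgeRange_sound data 3 374 0 e3_c0 k (by omega) (by omega)
  · skip
    exact edgeRange_sound data 3 138 374 e3_c1 k (by omega) (by omega)

theorem allE4 : ∀ k, k < 512 → justE data 4 k = true := by
  intro k hk
  by_cases hh1 : k < 374
  · skip
    exact edgeRange_sound data 4 374 0 e4_c0 k (by omega) (by omega)
  · skip
    exact edgeRange_sound data 4 138 374 e4_c1 k (by omega) (by omega)

theorem allE5 : ∀ k, k < 512 → justE data 5 k = true := by
  intro k hk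
  by_cases hh1 : k < 374
  · skip
    exact edgeRange_sound data 5 374 0 e5_c0 k (by omega) (by omega)
  · skip
    exact edgeRange_sound data 5 138 374 e5_c1 k (by omega) (by omega)

theorem allE6 : ∀ k, k < 512 → justE data 6 k = true := by
  intro k hk
  by_cases hh1 : k < 374
  · skip
    exact edgeRange_sound data 6 374 0 e6_c0 k (by omega) (by omega)
  · skip
    exact edgeRange_sound data 6 138 374 e6_c1 k (by omega) (by omega)

theorem allE7 : ∀ k, k < 512 → justE data 7 k = true := by
  intro k hk
  by_cases hh1 : k < 374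
  · skip
    exact edgeRange_sound data 7 374 0 e7_c0 k (by omega) (by omega)
  · skip
    exact edgeRange_sound data 7 138 374 e7_c1 k (by omega) (by omega)

theorem allE8 : ∀ k, k < 512 → justE data 8 k = true := by
  intro k hk
  by_cases hh1 : k < 374
  · skip
    exact edgeRange_sound data 8 374 0 e8_c0 k (by omega) (by omega)
  · skip
    exact edgeRange_sound data 8 138 374 e8_c1 k (by omega) (by omega)

theorem allE9 : ∀ k, k < 512 → justE data 9 k = true := by
  intro k hk
  by_cases hh1 : k < 374
  · skip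
    exact edgeRange_sound data 9 374 0 e9_c0 k (by omega) (by omega)
  · skip
    exact edgeRange_sound data 9 138 374 e9_c1 k (by omega) (by omega)

theorem allE : ∀ c k, c < data.nc → k ≤ data.mask → justE data c k = true := by
  intro c k hc hk
  have hk' : k < 512 := Nat.lt_succ_of_le hk
  have hc' : c < 10 := hc
  interval_cases c
  · exact allE0 k hk'
  · exact allE1 k hk'
  · exact allE2 k hk'
  · exact allE3 k hk'
  · exact allE4 k hk'
  · exact allE5 k hk'
  · exact allE6 k hk'
  · exact allE7 k hk'
  · exact allE8 k hk'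
  · exact allE9 k hk'

theorem allM : ∀ k, k ≤ data.mask → justM data k = true := by
  intro k hk
  have hk' : k < 512 := Nat.lt_succ_of_le hk
  by_cases hh1 : k < 374
  · skip
    exact mergeRange_sound data 374 0 m_c0 k (by omega) (by omega)
  · skip
    exact mergeRange_sound data 138 374 m_c1 k (by omega) (by omega)

theorem rows_all : ∀ k, k < M → isFinal data k = true → rowOK data M k data.nc = true := by
  intro k hk
  have hk' : k < 374 := hk
  exact rowsRange_sound data M 374 0 rows0 k (by omega) (by omega)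

theorem cnt_ok : countFinal data M 0 0 = n := by
  exact cnt0

theorem bound : Finite (PresentedGroup (relSet Cfsg.Agent.Lib.Helper12.McLTC.Cod5.dec bases) ⧸ (Subgroup.closure (relSet Cfsg.Agent.Lib.Helper12.McLTC.Cod5.dec subsL)).map (PresentedGroup.mk (relSet Cfsg.Agent.Lib.Helper12.McLTC.Cod5.dec bases))) ∧
    Nat.card (PresentedGroup (relSet Cfsg.Agent.Lib.Helper12.McLTC.Cod5.dec bases) ⧸ (Subgroup.closure (relSet Cfsg.Agent.Lib.Helper12.McLTC.Cod5.dec subsL)).map (PresentedGroup.mk (relSet Cfsg.Agent.Lib.Helper12.McLTC.Cod5.dec bases))) ≤ n :=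
  tc_bound data bases subsL rots Cfsg.Agent.Lib.Helper12.McLTC.Cod5.coding (mem_relSet bases) (mem_relSet subsL) words_ok allE allM M n fin0_ok (by decide) (by decide) cnt_ok rows_all

end Cfsg.Agent.Lib.Helper16.Co2OrdTC.M5
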