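import Cfsg.Agent.Lib.Helper16.Co2OrdTC.M2T0

set_option autoImplicit false
set_option maxRecDepth 100000
set_option linter.unusedVariables false

namespace Cfsg.Agent.Lib.Helper16.Co2OrdTC.M2

open Cfsg.Agent.Helper4.TC

noncomputable def ecol0 (b : ℕ) : ℕ := (Bool.rec (motive := fun _ => ℕ) (e0_0) (e0_1) (Nat.ble 1 b))
noncomputable def jcol0 (b : ℕ) : ℕ := (Bool.rec (motive := fun _ => ℕ) (j0_0) (j0_1) (Nat.ble 1 b))
noncomputable def ecol1 (b : ℕ) : ℕ := (Bool.rec (motive := fun _ => ℕ) (e1_0) (e1_1) (Nat.ble 1 b))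
noncomputable def jcol1 (b : ℕ) : ℕ := (Bool.rec (motive := fun _ => ℕ) (j1_0) (j1_1) (Nat.ble 1 b))
noncomputable def ecol2 (b : ℕ) : ℕ := (Bool.rec (motive := fun _ => ℕ) (e2_0) (e2_1) (Nat.ble 1 b))
noncomputable def jcol2 (b : ℕ) : ℕ := (Bool.rec (motive := fun _ => ℕ) (j2_0) (j2_1) (Nat.ble 1 b))
noncomputable def ecol3 (b : ℕ) : ℕ := (Bool.rec (motive := fun _ => ℕ) (e3_0) (e3_1) (Nat.ble 1 b))
noncomputable def jcol3 (b : ℕ) : ℕ := (Bool.rec (motive := fun _ => ℕ) (j3_0) (j3_1) (Nat.ble 1 b))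
noncomputable def eT (c b : ℕ) : ℕ := (Bool.rec (motive := fun _ => ℕ) (Bool.rec (motive := fun _ => ℕ) (ecol0 b) (ecol1 b) (Nat.ble 1 c)) (Bool.rec (motive := fun _ => ℕ) (ecol2 b) (ecol3 b) (Nat.ble 3 c)) (Nat.ble 2 c))
noncomputable def jT (c b : ℕ) : ℕ := (Bool.rec (motive := fun _ => ℕ) (Bool.rec (motive := fun _ => ℕ) (jcol0 b) (jcol1 b) (Nat.ble 1 c)) (Bool.rec (motive := fun _ => ℕ) (jcol2 b) (jcol3 b) (Nat.ble 3 c)) (Nat.ble 2 c))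
noncomputable def mgT (b : ℕ) : ℕ := (Bool.rec (motive := fun _ => ℕ) (m_0) (m_1) (Nat.ble 1 b))
noncomputable def jmT (b : ℕ) : ℕ := (Bool.rec (motive := fun _ => ℕ) (jm_0) (jm_1) (Nat.ble 1 b))
def rw0 : List ℕ := [0, 0, 3, 1, 1, 1, 1, 3, 0]
def rw1 : List ℕ := [0, 0, 0, 0, 0, 0, 0]
def rw2 : List ℕ := [0, 3, 0, 3, 0, 3]
def rw3 : List ℕ := [0, 2, 1, 1, 3, 1, 1, 2, 0]
def rw4 : List ℕ := [0, 0, 2, 1, 1, 3, 1, 1, 2]
def rw5 : List ℕ := [0, 3, 0, 3, 0, 3]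
def rw6 : List ℕ := [0, 0, 2, 0, 0, 3, 1, 1, 3]
def rw7 : List ℕ := [1, 3, 1, 1, 2, 0, 0, 2, 1]
def rw8 : List ℕ := [1, 2, 1, 2, 1, 2]
def rw9 : List ℕ := [1, 1, 2, 0, 0, 2, 1, 1, 3]
def rw10 : List ℕ := [2, 1, 1, 3, 1, 1, 2, 0, 0]
def rw11 : List ℕ := [2, 1, 1, 1, 2, 0, 0, 0, 0]
def rw12 : List ℕ := [2, 2, 2, 1, 2, 2, 2, 1]
def rw13 : List ℕ := [3, 0, 3, 0, 3, 0]
def rw14 : List ℕ := [3, 3, 0, 3, 3, 3, 0, 3]
def rw15 : List ℕ := [3, 3, 3, 0, 3, 3, 3, 0]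
def rw16 : List ℕ := [3, 3, 3, 3, 3, 3, 3]
noncomputable def relW (i : ℕ) : List ℕ := (Bool.rec (motive := fun _ => List ℕ) (Bool.rec (motive := fun _ => List ℕ) (Bool.rec (motive := fun _ => List ℕ) (Bool.rec (motive := fun _ => List ℕ) (Bool.rec (motive := fun _ => List ℕ) (rw0) (rw1) (Nat.ble 1 i)) (Bool.rec (motive := fun _ => List ℕ) (rw2) (rw3) (Nat.ble 3 i)) (Nat.ble 2 i)) (Bool.rec (motive := fun _ => List ℕ) (Bool.rec (motive := fun _ => List ℕ) (rw4) (rw5) (Nat.ble 5 i)) (Bool.rec (motive := fun _ => List ℕ) (rw6) (rw7) (Nat.ble 7 i)) (Nat.ble 6 i)) (Nat.ble 4 i)) (Bool.rec (motive := fun _ => List ℕ) (Bool.rec (motive := fun _ => List ℕ) (Bool.rec (motive := fun _ => List ℕ) (rw8) (rw9) (Nat.ble 9 i)) (Bool.rec (motive := fun _ => List ℕ) (rw10) (rw11) (Nat.ble 11 i)) (Nat.ble 10 i)) (Bool.rec (motive := fun _ => List ℕ) (Bool.rec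 (motive := fun _ => List ℕ) (rw12) (rw13) (Nat.ble 13 i)) (Bool.rec (motive := fun _ => List ℕ) (rw14) (rw15) (Nat.ble 15 i)) (Nat.ble 14 i)) (Nat.ble 12 i)) (Nat.ble 8 i)) (Bool.rec (motive := fun _ => List ℕ) (Bool.rec (motive := fun _ => List ℕ) (Bool.rec (motive := fun _ => List ℕ) (Bool.rec (motive := fun _ => List ℕ) (rw16) ([]) (Nat.ble 17 i)) ([]) (Nat.ble 18 i)) ([]) (Nat.ble 20 i)) ([]) (Nat.ble 24 i)) (Nat.ble 16 i))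
def sw0 : List ℕ := [0]
noncomputable def subW (i : ℕ) : List ℕ := (sw0)

noncomputable def data : Data where
  w := 5
  mask := 31
  tw := 7
  tmask := 127
  hsh := 12
  lsh := 17
  ew := 19
  emask := 524287
  mw := 22
  mmask := 4194303
  jw := 8
  jmask := 255
  bsh := 4
  bmask := 15
  nc := 4
  fuel := 1
  E := eT
  J := jT
  Mg := mgT
  JM := jmT
  relW := relW
  nrot := 17
  subW := subW
  nsub := 1

def M : ℕ := 24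
def n : ℕ := 24

def bases : List (List ℕ) := [
  [0, 0, 0, 0, 0, 0, 0],
  [3, 3, 3, 3, 3, 3, 3],
  [3, 1, 1, 2, 0, 0, 2, 1, 1],
  [0, 0, 3, 1, 1, 3, 0, 0, 2],
  [0, 3, 0, 3, 0, 3],
  [2, 1, 2, 1, 2, 1],
  [0, 3, 3, 3, 0, 3, 3, 3],
  [2, 2, 2, 1, 2, 2, 2, 1],
  [0, 0, 0, 0, 2, 1, 1, 1, 2],
  [3, 0, 0, 0, 3, 1, 1, 1, 1]]

def rots : List (ℕ × ℕ) := [(9, 2), (0, 1), (4, 4), (2, 5), (2, 4), (4, 2), (3, 6), (2, 8), (5, 5), (2, 1), (2, 6), (8, 4), (7, 4), (4, 1), (6, 2), (6, 1), (1, 1)]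

def subsL : List (List ℕ) := [
  [0]]

end Cfsg.Agent.Lib.Helper16.Co2OrdTC.M2
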