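import Cfsg.Agent.Lib.Helper4.TC.Timed

set_option autoImplicit false
set_option maxRecDepth 100000
set_option linter.unusedVariables false

namespace Cfsg.Agent.Lib.Helper16.Co2OrdTC.M2

open Cfsg.Agent.Helper4.TC

def e0_0 : ℕ := 0xc1601c9403c40019600d1801bb8048380453013440281003e680ae10129202a1805a180c00
def j0_0 : ℕ := 0x23021b0113750b010203010201010104
def e0_1 : ℕ := 0xae0054000ea8028f0082401428015a00371
def j0_1 : ℕ := 0x2b0b2b330b2ba58d
def e1_0 : ℕ := 0x4e801c2803d28066b00bde013c804918076d011d20298803a7009e6016420271c058200be0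
def j1_0 : ℕ := 0xa53b025d7d95026d4d02013502010105
def e1_1 : ℕ := 0x6e005b000da802d10085000fcc01c800136
def j1_1 : ℕ := 0xbd02ad4b029d43b5
def e2_0 : ℕ := 0x5e801b300246807e401046012c804648096200b2201740032780a260111402d80056280bc1
def j2_0 : ℕ := 0xa5635b02029553020101013501020101
def e2_1 : ℕ := 0x15c00458011580328000ee0149c00fa803b3
def j2_1 : ℕ := 0x2530202bd02ad9d
def e3_0 : ℕ := 0xc4a0035c0236806ae004aa0218c04548035400aa40291005508080c010960262005d000b82
def j3_0 : ℕ := 0x2016d7501024d01016b020101010201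
def e3_1 : ℕ := 0x126003d801088030f007a00132802b3805a6
def j3_1 : ℕ := 0x83b583837b730202
def m_0 : ℕ := 0x11403c2500e0140346400c18c02c4300a00c0246200808801c020061040142100400400c6000210000400000
def jm_0 : ℕ := 0x0
def m_1 : ℕ := 0x1b805c0c0161ac0546801402004c6701211c04446010
def jm_1 : ℕ := 0x0

end Cfsg.Agent.Lib.Helper16.Co2OrdTC.M2
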