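import Cfsg.Agent.Lib.Helper16.Co2OrdTC.M3T0

set_option autoImplicit false
set_option maxRecDepth 100000
set_option linter.unusedVariables false

namespace Cfsg.Agent.Lib.Helper16.Co2OrdTC.M3

open Cfsg.Agent.Helper4.TC

noncomputable def ecol0 (b : ℕ) : ℕ := (Bool.rec (motive := fun _ => ℕ) (e0_0) (e0_1) (Nat.ble 1 b))
noncomputable def jcol0 (b : ℕ) : ℕ := (Bool.rec (motive := fun _ => ℕ) (j0_0) (j0_1) (Nat.ble 1 b))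
noncomputable def ecol1 (b : ℕ) : ℕ := (Bool.rec (motive := fun _ => ℕ) (e1_0) (e1_1) (Nat.ble 1 b))
noncomputable def jcol1 (b : ℕ) : ℕ := (Bool.rec (motive := fun _ => ℕ) (j1_0) (j1_1) (Nat.ble 1 b))
noncomputable def ecol2 (b : ℕ) : ℕ := (Bool.rec (motive := fun _ => ℕ) (e2_0) (e2_1) (Nat.ble 1 b))
noncomputable def jcol2 (b : ℕ) : ℕ := (Bool.rec (motive := fun _ => ℕ) (j2_0) (j2_1) (Nat.ble 1 b))
noncomputable def ecol3 (b : ℕ) : ℕ := (Bool.rec (motive := fun _ => ℕ) (e3_0) (e3_1) (Nat.ble 1 b))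
noncomputable def jcol3 (b : ℕ) : ℕ := (Bool.rec (motive := fun _ => ℕ) (j3_0) (j3_1) (Nat.ble 1 b))
noncomputable def ecol4 (b : ℕ) : ℕ := (Bool.rec (motive := fun _ => ℕ) (e4_0) (e4_1) (Nat.ble 1 b))
noncomputable def jcol4 (b : ℕ) : ℕ := (Bool.rec (motive := fun _ => ℕ) (j4_0) (j4_1) (Nat.ble 1 b))
noncomputable def ecol5 (b : ℕ) : ℕ := (Bool.rec (motive := fun _ => ℕ) (e5_0) (e5_1) (Nat.ble 1 b))
noncomputable def jcol5 (b : ℕ) : ℕ := (Bool.rec (motive := fun _ => ℕ) (j5_0) (j5_1) (Nat.ble 1 b))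
noncomputable def eT (c b : ℕ) : ℕ := (Bool.rec (motive := fun _ => ℕ) (Bool.rec (motive := fun _ => ℕ) (Bool.rec (motive := fun _ => ℕ) (ecol0 b) (ecol1 b) (Nat.ble 1 c)) (Bool.rec (motive := fun _ => ℕ) (ecol2 b) (ecol3 b) (Nat.ble 3 c)) (Nat.ble 2 c)) (Bool.rec (motive := fun _ => ℕ) (Bool.rec (motive := fun _ => ℕ) (ecol4 b) (ecol5 b) (Nat.ble 5 c)) (0) (Nat.ble 6 c)) (Nat.ble 4 c))
noncomputable def jT (c b : ℕ) : ℕ := (Bool.rec (motive := fun _ => ℕ) (Bool.rec (motive := fun _ => ℕ) (Bool.rec (motive := fun _ => ℕ) (jcol0 b) (jcol1 b) (Nat.ble 1 c)) (Bool.rec (motive := fun _ => ℕ) (jcol2 b) (jcol3 b) (Nat.ble 3 c)) (Nat.ble 2 c)) (Bool.rec (motive := fun _ => ℕ) (Bool.rec (motive := fun _ => ℕ) (jcol4 b) (jcol5 b) (Nat.ble 5 c)) (0) (Nat.ble 6 c)) (Nat.ble 4 c))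
noncomputable def mgT (b : ℕ) : ℕ := (Bool.rec (motive := fun _ => ℕ) (m_0) (m_1) (Nat.ble 1 b))
noncomputable def jmT (b : ℕ) : ℕ := (Bool.rec (motive := fun _ => ℕ) (jm_0) (jm_1) (Nat.ble 1 b))
def rw0 : List ℕ := [0, 4, 1, 2, 1, 3, 4, 4]
def rw1 : List ℕ := [0, 5, 1, 5, 5, 2, 0, 3]
def rw2 : List ℕ := [0, 0, 0, 0, 0, 0, 0]
def rw3 : List ℕ := [0, 2, 5, 0, 2, 4, 1, 5]
def rw4 : List ℕ := [0, 2, 1, 1, 1, 2, 0, 0, 0]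
def rw5 : List ℕ := [1, 1, 1, 1, 3, 0, 0, 0, 3]
def rw6 : List ℕ := [1, 1, 1, 2, 0, 0, 0, 0, 2]
def rw7 : List ℕ := [1, 1, 3, 1, 1, 2, 0, 0, 2]
def rw8 : List ℕ := [2, 4, 2, 2, 4, 2]
def rw9 : List ℕ := [2, 1, 1, 1, 2, 0, 0, 0, 0]
def rw10 : List ℕ := [2, 2, 2, 1, 2, 2, 2, 1]
def rw11 : List ℕ := [2, 0, 0, 3, 1, 1, 3, 0, 0]
def rw12 : List ℕ := [2, 1, 2, 1, 2, 1]
def rw13 : List ℕ := [2, 4, 3, 5, 3, 4]
def rw14 : List ℕ := [3, 5, 2, 4, 2, 5]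
def rw15 : List ℕ := [3, 1, 4, 3, 1, 4, 0, 5]
def rw16 : List ℕ := [4, 3, 5, 3, 4, 2]
def rw17 : List ℕ := [4, 2, 5, 3, 5, 2]
def rw18 : List ℕ := [4, 3, 4, 2, 0, 4, 3, 3, 4, 1]
def rw19 : List ℕ := [4, 0, 5, 3, 1, 4, 3, 1]
def rw20 : List ℕ := [4, 3, 1, 4, 0, 5, 3, 1]
def rw21 : List ℕ := [5, 2, 0, 3, 0, 5, 1, 5]
def rw22 : List ℕ := [2, 2, 5, 1, 3, 5, 2, 5, 0, 5]
def rw23 : List ℕ := [3, 1, 1, 3, 0, 0, 2, 0, 0]
def rw24 : List ℕ := [5, 0, 2, 5, 0, 2, 4, 1]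
def rw25 : List ℕ := [5, 2, 2, 5, 1, 3, 5, 2, 5, 0]
def rw26 : List ℕ := [5, 5, 5, 5, 5, 5, 5]
def rw27 : List ℕ := [5, 2, 4, 2, 5, 3]
def rw28 : List ℕ := [3, 3, 4, 1, 4, 3, 4, 2, 0, 4]
noncomputable def relW (i : ℕ) : List ℕ := (Bool.rec (motive := fun _ => List ℕ) (Bool.rec (motive := fun _ => List ℕ) (Bool.rec (motive := fun _ => List ℕ) (Bool.rec (motive := fun _ => List ℕ) (Bool.rec (motive := fun _ => List ℕ) (rw0) (rw1) (Nat.ble 1 i)) (Bool.rec (motive := fun _ => List ℕ) (rw2) (rw3) (Nat.ble 3 i)) (Nat.ble 2 i)) (Bool.rec (motive := fun _ => List ℕ) (Bool.rec (motive := fun _ => List ℕ) (rw4) (rw5) (Nat.ble 5 i)) (Bool.rec (motive := fun _ => List ℕ) (rw6) (rw7) (Nat.ble 7 i)) (Nat.ble 6 i)) (Nat.ble 4 i)) (Bool.rec (motive := fun _ => List ℕ) (Bool.rec (motive := fun _ => List ℕ) (Bool.rec (motive := fun _ => List ℕ) (rw8)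 (rw9) (Nat.ble 9 i)) (Bool.rec (motive := fun _ => List ℕ) (rw10) (rw11) (Nat.ble 11 i)) (Nat.ble 10 i)) (Bool.rec (motive := fun _ => List ℕ) (Bool.rec (motive := fun _ => List ℕ) (rw12) (rw13) (Nat.ble 13 i)) (Bool.rec (motive := fun _ => List ℕ) (rw14) (rw15) (Nat.ble 15 i)) (Nat.ble 14 i)) (Nat.ble 12 i)) (Nat.ble 8 i)) (Bool.rec (motive := fun _ => List ℕ) (Bool.rec (motive := fun _ => List ℕ) (Bool.rec (motive := fun _ => List ℕ) (Bool.rec (motive := fun _ => List ℕ) (rw16) (rw17) (Nat.ble 17 i)) (Bool.rec (motive := fun _ => List ℕ) (rw18) (rw19) (Nat.ble 19 i)) (Nat.ble 18 i)) (Bool.rec (motive := fun _ => List ℕ) (Bool.rec (motive := fun _ => List ℕ) (rw20) (rw21) (Nat.ble 21 i)) (Bool.rec (motive := fun _ => List ℕ) (rw22) (rw23) (Nat.ble 23 i)) (Nat.ble 22 i)) (Nat.ble 20 i)) (Bool.rec (motive := fun _ => List ℕ) (Bool.rec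 (motive := fun _ => List ℕ) (Bool.rec (motive := fun _ => List ℕ) (rw24) (rw25) (Nat.ble 25 i)) (Bool.rec (motive := fun _ => List ℕ) (rw26) (rw27) (Nat.ble 27 i)) (Nat.ble 26 i)) (Bool.rec (motive := fun _ => List ℕ) (Bool.rec (motive := fun _ => List ℕ) (rw28) ([]) (Nat.ble 29 i)) ([]) (Nat.ble 30 i)) (Nat.ble 28 i)) (Nat.ble 24 i)) (Nat.ble 16 i))
def sw0 : List ℕ := [0]
def sw1 : List ℕ := [2]
noncomputable def subW (i : ℕ) : List ℕ := (Bool.rec (motive := fun _ => List ℕ) (sw0) (sw1) (Nat.ble 1 i))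

noncomputable def data : Data where
  w := 5
  mask := 31
  tw := 8
  tmask := 255
  hsh := 13
  lsh := 18
  ew := 21
  emask := 2097151
  mw := 23
  mmask := 8388607
  jw := 13
  jmask := 8191
  bsh := 4
  bmask := 15
  nc := 6
  fuel := 3
  E := eT
  J := jT
  Mg := mgT
  JM := jmT
  relW := relW
  nrot := 29
  subW := subW
  nsub := 2

def M : ℕ := 31
def n : ℕ := 15

def bases : List (List ℕ) := [
  [0, 0, 0, 0, 0, 0, 0],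
  [5, 5, 5, 5, 5, 5, 5],
  [5, 3, 4, 2, 4, 3],
  [2, 5, 3, 5, 2, 4],
  [3, 1, 1, 2, 0, 0, 2, 1, 1],
  [0, 0, 3, 1, 1, 3, 0, 0, 2],
  [2, 1, 2, 1, 2, 1],
  [2, 2, 4, 2, 2, 4],
  [2, 2, 2, 1, 2, 2, 2, 1],
  [0, 4, 3, 3, 4, 1, 4, 3, 4, 2],
  [3, 5, 2, 5, 0, 5, 2, 2, 5, 1],
  [0, 0, 0, 0, 2, 1, 1, 1, 2],
  [3, 0, 0, 0, 3, 1, 1, 1, 1],
  [0, 2, 4, 1, 5, 0, 2, 5],
  [4, 3, 1, 4, 0, 5, 3, 1],
  [0, 3, 0, 5, 1, 5, 5, 2],
  [3, 4, 4, 0, 4, 1, 2, 1]]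

def rots : List (ℕ × ℕ) := [(16, 3), (15, 2), (0, 1), (13, 5), (11, 3), (12, 5), (11, 5), (4, 7), (7, 1), (11, 4), (8, 4), (5, 8), (6, 4), (2, 3), (3, 2), (14, 6), (2, 4), (3, 5), (9, 6), (14, 3), (14, 0), (15, 6), (10, 6), (5, 2), (13, 4), (10, 5), (1, 5), (3, 3), (9, 2)]

def subsL : List (List ℕ) := [
  [0],
  [2]]

end Cfsg.Agent.Lib.Helper16.Co2OrdTC.M3
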