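import Cfsg.Agent.Lib.Helper4.TC.Timed

set_option autoImplicit false
set_option maxRecDepth 100000
set_option linter.unusedVariables false

namespace Cfsg.Agent.Lib.Helper16.Co2OrdTC.M3

open Cfsg.Agent.Helper4.TC

def e0_0 : ℕ := 0xec8004a4508bc00465000b5000db8009c82275c006d116a35c5532a00f01006158035a001ec601060
def j0_0 : ℕ := 0x981340160b602a802c10c00100180040020020008004002004
def e0_1 : ℕ := 0x3ed000000000000104e00000000000024940081e589c6000000000000000000a84
def j0_1 : ℕ := 0x23000000000400000000080fa01b0000000000002
def e1_0 : ℕ := 0x1521a800d28447b8000000060180062c0029c00d420042c95a6d0912ac50ab0007a080361c01e4801040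
def j1_0 : ℕ := 0x1d81541ca00000100cc056002000829400200100100f4002005
def e1_1 : ℕ := 0x728000000000000035e000002c453000000012ca00000000000000000000000000
def j1_1 : ℕ := 0x200000000fa00000100000040000000000000000
def e2_0 : ℕ := 0x13c80022c01706282fe001d680129000b8e00acf0062500380401cc454a71125f60034a401dca01020
def j2_0 : ℕ := 0x7b016c00405302582581ac07d02a8008086001000800400200c
def e2_1 : ℕ := 0x1ae4000000000000000001e9c0065c00000000000000000000000000000000028900000000000
def j2_1 : ℕ := 0x1ac00000000000080c600000000000000000000008000000
def e3_0 : ℕ := 0x574000c640071600bc30003700319c01a042071d2f3ed00000001d824ca52005d6803914b1c4c01000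
def j3_0 : ℕ := 0x3d83340ba00203a81cc004001000800000400100080b4002005
def e3_1 : ℕ := 0x90b3000000000000000000000050d3c00000000000000000000000000000000000000000000000
def j3_1 : ℕ := 0x19400000000000001ea00000000000000000000000000000
def e4_0 : ℕ := 0x58180043400096000000005c803208b19cc286fe333cd98a26001d4a52a13005b7003e0001bce00fe1
def j4_0 : ℕ := 0x1026c126000066800811600100080041060010008008002001
def e4_1 : ℕ := 0x49018000000000000243c0000000000000000000000000000000
def j4_1 : ℕ := 0x146000000028c0000000000000000000
def e5_0 : ℕ := 0x2447b002d0c001dc007f90001696181800c8e001f9006e080332401d0a569f4005978032a801f8000fa2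
def j5_0 : ℕ := 0x5a80080ea0cd03683181bc066001013405a0010008004004001
def e5_1 : ℕ := 0x1b200000000000003b38000000019658866000000000000000000000000000000000000000000
def j5_1 : ℕ := 0x8000000001000015600200000000000000000000000000
def m_0 : ℕ := 0x28c01e4180386300688624800c0165100284200480400820400e3096104100284200400400650000880000800000
def jm_0 : ℕ := 0x1e1b00000000000000005c2c0000000000000000000
def m_1 : ℕ := 0x440a3c6810181022521ccd23397a42700c90c62a018b4212923005156948570210a54321328442a0848509
def jm_1 : ℕ := 0x540d836c030e086c40001a90c886042e260b31185a4c2662b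

end Cfsg.Agent.Lib.Helper16.Co2OrdTC.M3
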