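import Cfsg.Agent.Lib.Helper16.Co2OrdTC.M4T0

set_option autoImplicit false
set_option maxRecDepth 100000
set_option linter.unusedVariables false

namespace Cfsg.Agent.Lib.Helper16.Co2OrdTC.M4

open Cfsg.Agent.Helper4.TC

noncomputable def ecol0 (b : ℕ) : ℕ := (Bool.rec (motive := fun _ => ℕ) (e0_0) (e0_1) (Nat.ble 1 b))
noncomputable def jcol0 (b : ℕ) : ℕ := (Bool.rec (motive := fun _ => ℕ) (j0_0) (j0_1) (Nat.ble 1 b))
noncomputable def ecol1 (b : ℕ) : ℕ := (Bool.rec (motive := fun _ => ℕ) (e1_0) (e1_1) (Nat.ble 1 b))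
noncomputable def jcol1 (b : ℕ) : ℕ := (Bool.rec (motive := fun _ => ℕ) (j1_0) (j1_1) (Nat.ble 1 b))
noncomputable def ecol2 (b : ℕ) : ℕ := (Bool.rec (motive := fun _ => ℕ) (e2_0) (e2_1) (Nat.ble 1 b))
noncomputable def jcol2 (b : ℕ) : ℕ := (Bool.rec (motive := fun _ => ℕ) (j2_0) (j2_1) (Nat.ble 1 b))
noncomputable def ecol3 (b : ℕ) : ℕ := (Bool.rec (motive := fun _ => ℕ) (e3_0) (e3_1) (Nat.ble 1 b))
noncomputable def jcol3 (b : ℕ) : ℕ := (Bool.rec (motive := fun _ => ℕ) (j3_0) (j3_1) (Nat.ble 1 b))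
noncomputable def ecol4 (b : ℕ) : ℕ := (Bool.rec (motive := fun _ => ℕ) (e4_0) (e4_1) (Nat.ble 1 b))
noncomputable def jcol4 (b : ℕ) : ℕ := (Bool.rec (motive := fun _ => ℕ) (j4_0) (j4_1) (Nat.ble 1 b))
noncomputable def ecol5 (b : ℕ) : ℕ := (Bool.rec (motive := fun _ => ℕ) (e5_0) (e5_1) (Nat.ble 1 b))
noncomputable def jcol5 (b : ℕ) : ℕ := (Bool.rec (motive := fun _ => ℕ) (j5_0) (j5_1) (Nat.ble 1 b))
noncomputable def ecol6 (b : ℕ) : ℕ := (Bool.rec (motive := fun _ => ℕ) (e6_0) (e6_1) (Nat.ble 1 b))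
noncomputable def jcol6 (b : ℕ) : ℕ := (Bool.rec (motive := fun _ => ℕ) (j6_0) (j6_1) (Nat.ble 1 b))
noncomputable def ecol7 (b : ℕ) : ℕ := (Bool.rec (motive := fun _ => ℕ) (e7_0) (e7_1) (Nat.ble 1 b))
noncomputable def jcol7 (b : ℕ) : ℕ := (Bool.rec (motive := fun _ => ℕ) (j7_0) (j7_1) (Nat.ble 1 b))
noncomputable def eT (c b : ℕ) : ℕ := (Bool.rec (motive := fun _ => ℕ) (Bool.rec (motive := fun _ => ℕ) (Bool.rec (motive := fun _ => ℕ) (ecol0 b) (ecol1 b) (Nat.ble 1 c)) (Bool.rec (motive := fun _ => ℕ) (ecol2 b) (ecol3 b) (Nat.ble 3 c)) (Nat.ble 2 c)) (Bool.rec (motive := fun _ => ℕ) (Bool.rec (motive := fun _ => ℕ) (ecol4 b) (ecol5 b) (Nat.ble 5 c)) (Bool.rec (motive := fun _ => ℕ) (ecol6 b) (ecol7 b) (Nat.ble 7 c)) (Nat.ble 6 c)) (Nat.ble 4 c))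
noncomputable def jT (c b : ℕ) : ℕ := (Bool.rec (motive := fun _ => ℕ) (Bool.rec (motive := fun _ => ℕ) (Bool.rec (motive := fun _ => ℕ) (jcol0 b) (jcol1 b) (Nat.ble 1 c)) (Bool.rec (motive := fun _ => ℕ) (jcol2 b) (jcol3 b) (Nat.ble 3 c)) (Nat.ble 2 c)) (Bool.rec (motive := fun _ => ℕ) (Bool.rec (motive := fun _ => ℕ) (jcol4 b) (jcol5 b) (Nat.ble 5 c)) (Bool.rec (motive := fun _ => ℕ) (jcol6 b) (jcol7 b) (Nat.ble 7 c)) (Nat.ble 6 c)) (Nat.ble 4 c))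
noncomputable def mgT (b : ℕ) : ℕ := (Bool.rec (motive := fun _ => ℕ) (m_0) (m_1) (Nat.ble 1 b))
noncomputable def jmT (b : ℕ) : ℕ := (Bool.rec (motive := fun _ => ℕ) (jm_0) (jm_1) (Nat.ble 1 b))
def rw0 : List ℕ := [0, 3, 0, 3, 0, 3]
def rw1 : List ℕ := [0, 3, 6, 5, 0, 0, 3, 7, 0, 2]
def rw2 : List ℕ := [0, 0, 2, 1, 1, 3, 1, 1, 2]
def rw3 : List ℕ := [0, 0, 0, 0, 0, 0, 0]
def rw4 : List ℕ := [0, 5, 1, 5, 5, 2, 0, 3]
def rw5 : List ℕ := [0, 0, 0, 3, 1, 1, 1, 1, 3]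
def rw6 : List ℕ := [0, 2, 4, 1, 5, 0, 2, 5]
def rw7 : List ℕ := [0, 5, 3, 1, 4, 3, 1, 4]
def rw8 : List ℕ := [0, 0, 2, 0, 0, 3, 1, 1, 3]
def rw9 : List ℕ := [0, 3, 3, 5, 1, 5, 5, 3]
def rw10 : List ℕ := [0, 4, 2, 2, 1, 2, 4, 4]
def rw11 : List ℕ := [0, 5, 2, 2, 5, 1, 3, 5, 2, 5]
def rw12 : List ℕ := [0, 0, 3, 1, 1, 1, 1, 3, 0]
def rw13 : List ℕ := [0, 4, 3, 3, 4, 1, 4, 3, 4, 2]
def rw14 : List ℕ := [0, 3, 3, 3, 0, 3, 3, 3]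
def rw15 : List ℕ := [0, 0, 0, 0, 0, 0, 0]
def rw16 : List ℕ := [0, 0, 3, 1, 1, 3, 0, 0, 2]
def rw17 : List ℕ := [0, 4, 1, 2, 1, 3, 4, 4]
def rw18 : List ℕ := [0, 0, 2, 1, 1, 1, 2, 0, 0]
def rw19 : List ℕ := [0, 3, 3, 3, 0, 3, 3, 3]
def rw20 : List ℕ := [0, 2, 0, 3, 6, 5, 0, 0, 3, 7]
def rw21 : List ℕ := [0, 2, 1, 1, 3, 1, 1, 2, 0]
def rw22 : List ℕ := [0, 3, 7, 0, 2, 0, 3, 6, 5, 0]
def rw23 : List ℕ := [0, 3, 0, 5, 1, 5, 5, 2]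
def rw24 : List ℕ := [0, 2, 5, 0, 2, 4, 1, 5]
def rw25 : List ℕ := [0, 0, 3, 7, 0, 2, 0, 3, 6, 5]
def rw26 : List ℕ := [0, 0, 0, 0, 0, 0, 0]
def rw27 : List ℕ := [0, 4, 4, 4, 0, 4, 4, 4]
def rw28 : List ℕ := [0, 3, 1, 1, 3, 0, 0, 2, 0]
def rw29 : List ℕ := [0, 0, 0, 0, 2, 1, 1, 1, 2]
def rw30 : List ℕ := [0, 3, 0, 3, 0, 3]
def rw31 : List ℕ := [0, 2, 1, 1, 1, 2, 0, 0, 0]
def rw32 : List ℕ := [0, 0, 0, 2, 1, 1, 1, 2, 0]
def rw33 : List ℕ := [0, 0, 0, 0, 0, 0, 0]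
def rw34 : List ℕ := [0, 3, 0, 3, 0, 3]
def rw35 : List ℕ := [0, 3, 1, 1, 1, 1, 3, 0, 0]
def rw36 : List ℕ := [0, 4, 4, 4, 0, 4, 4, 4]
def rw37 : List ℕ := [0, 2, 0, 0, 3, 1, 1, 3, 0]
def rw38 : List ℕ := [1, 4, 7, 2, 1, 3, 1, 6, 2, 1]
def rw39 : List ℕ := [1, 5, 5, 2, 0, 3, 0, 5]
def rw40 : List ℕ := [1, 1, 2, 0, 0, 2, 1, 1, 3]
def rw41 : List ℕ := [1, 5, 5, 5, 1, 5, 5, 5]
def rw42 : List ℕ := [1, 3, 5, 2, 5, 0, 5, 2, 2, 5]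
def rw43 : List ℕ := [1, 1, 1, 1, 1, 1, 1]
def rw44 : List ℕ := [1, 1, 3, 0, 0, 0, 3, 1, 1]
def rw45 : List ℕ := [1, 1, 1, 1, 3, 0, 0, 0, 3]
def rw46 : List ℕ := [1, 2, 2, 2, 1, 2, 2, 2]
def rw47 : List ℕ := [1, 3, 0, 0, 2, 0, 0, 3, 1]
def rw48 : List ℕ := [1, 4, 3, 1, 4, 0, 5, 3]
def rw49 : List ℕ := [1, 1, 3, 0, 0, 2, 0, 0, 3]
def rw50 : List ℕ := [1, 3, 1, 1, 2, 0, 0, 2, 1]
def rw51 : List ℕ := [1, 4, 3, 4, 2, 0, 4, 3, 3, 4]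
def rw52 : List ℕ := [1, 1, 4, 7, 2, 1, 3, 1, 6, 2]
def rw53 : List ℕ := [1, 2, 1, 3, 4, 4, 0, 4]
def rw54 : List ℕ := [1, 2, 0, 0, 2, 1, 1, 3, 1]
def rw55 : List ℕ := [1, 1, 2, 0, 0, 0, 0, 2, 1]
def rw56 : List ℕ := [1, 2, 1, 2, 1, 2]
def rw57 : List ℕ := [1, 2, 1, 2, 1, 2]
def rw58 : List ℕ := [1, 1, 3, 1, 1, 2, 0, 0, 2]
def rw59 : List ℕ := [1, 5, 5, 3, 0, 3, 3, 5]
def rw60 : List ℕ := [1, 5, 0, 2, 5, 0, 2, 4]
def rw61 : List ℕ := [1, 3, 4, 4, 0, 4, 1, 2]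
def rw62 : List ℕ := [1, 2, 4, 4, 0, 4, 2, 2]
def rw63 : List ℕ := [1, 2, 0, 0, 0, 0, 2, 1, 1]
def rw64 : List ℕ := [1, 3, 1, 6, 2, 1, 1, 4, 7, 2]
def rw65 : List ℕ := [1, 2, 2, 2, 1, 2, 2, 2]
def rw66 : List ℕ := [1, 6, 2, 1, 1, 4, 7, 2, 1, 3]
def rw67 : List ℕ := [1, 1, 1, 1, 1, 1, 1]
def rw68 : List ℕ := [1, 1, 1, 3, 0, 0, 0, 3, 1]
def rw69 : List ℕ := [1, 5, 5, 5, 1, 5, 5, 5]
def rw70 : List ℕ := [1, 2, 1, 2, 1, 2]
def rw71 : List ℕ := [1, 3, 0, 0, 0, 3, 1, 1, 1]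
def rw72 : List ℕ := [1, 4, 0, 5, 3, 1, 4, 3]
def rw73 : List ℕ := [1, 1, 1, 2, 0, 0, 0, 0, 2]
def rw74 : List ℕ := [1, 1, 1, 1, 1, 1, 1]
def rw75 : List ℕ := [1, 1, 1, 1, 1, 1, 1]
def rw76 : List ℕ := [2, 2, 1, 2, 4, 4, 0, 4]
def rw77 : List ℕ := [2, 1, 2, 4, 4, 0, 4, 2]
def rw78 : List ℕ := [2, 1, 1, 1, 2, 0, 0, 0, 0]
def rw79 : List ℕ := [2, 2, 2, 2, 2, 2, 2]
def rw80 : List ℕ := [2, 2, 2, 2, 2, 2, 2]
def rw81 : List ℕ := [2, 5, 1, 3, 5, 2, 5, 0, 5, 2]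
def rw82 : List ℕ := [2, 5, 2, 5, 2, 5, 2, 5]
def rw83 : List ℕ := [2, 5, 3, 5, 2, 4]
def rw84 : List ℕ := [2, 1, 2, 1, 2, 1]
def rw85 : List ℕ := [2, 4, 2, 2, 4, 2]
def rw86 : List ℕ := [2, 4, 2, 5, 3, 5]
def rw87 : List ℕ := [2, 2, 5, 1, 3, 5, 2, 5, 0, 5]
def rw88 : List ℕ := [2, 5, 0, 5, 2, 2, 5, 1, 3, 5]
def rw89 : List ℕ := [2, 0, 0, 3, 1, 1, 3, 0, 0]
def rw90 : List ℕ := [2, 2, 4, 2, 2, 4]
def rw91 : List ℕ := [2, 4, 2, 2, 4, 2]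
def rw92 : List ℕ := [2, 7, 4, 4, 7, 7, 2, 2, 5, 5]
def rw93 : List ℕ := [2, 4, 3, 5, 3, 4]
def rw94 : List ℕ := [2, 5, 0, 2, 4, 1, 5, 0]
def rw95 : List ℕ := [2, 2, 7, 2, 2, 7, 2, 2, 7]
def rw96 : List ℕ := [2, 0, 3, 0, 5, 1, 5, 5]
def rw97 : List ℕ := [2, 0, 0, 2, 1, 1, 3, 1, 1]
def rw98 : List ℕ := [2, 1, 2, 2, 2, 1, 2, 2]
def rw99 : List ℕ := [2, 1, 2, 1, 2, 1]
def rw100 : List ℕ := [2, 5, 2, 5, 2, 5, 2, 5]
def rw101 : List ℕ := [2, 1, 3, 4, 4, 0, 4, 1]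
def rw102 : List ℕ := [2, 1, 2, 2, 2, 1, 2, 2]
def rw103 : List ℕ := [2, 4, 2, 4, 2, 4]
def rw104 : List ℕ := [2, 1, 1, 3, 1, 1, 2, 0, 0]
def rw105 : List ℕ := [2, 7, 2, 2, 7, 2, 2, 7, 2]
def rw106 : List ℕ := [2, 4, 3, 4, 2, 4, 4, 4]
def rw107 : List ℕ := [2, 2, 1, 2, 2, 2, 1, 2]
def rw108 : List ℕ := [2, 2, 2, 2, 2, 2, 2]
def rw109 : List ℕ := [2, 1, 3, 1, 6, 2, 1, 1, 4, 7]
def rw110 : List ℕ := [2, 4, 1, 5, 0, 2, 5, 0]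
def rw111 : List ℕ := [2, 2, 2, 2, 2, 2, 2]
def rw112 : List ℕ := [2, 0, 3, 6, 5, 0, 0, 3, 7, 0]
def rw113 : List ℕ := [2, 7, 2, 2, 7, 2, 2, 7, 2]
def rw114 : List ℕ := [2, 2, 5, 5, 2, 7, 4, 4, 7, 7]
def rw115 : List ℕ := [2, 5, 2, 5, 2, 5, 2, 5]
def rw116 : List ℕ := [2, 2, 7, 2, 2, 7, 2, 2, 7]
def rw117 : List ℕ := [2, 1, 2, 1, 2, 1]
def rw118 : List ℕ := [2, 2, 2, 1, 2, 2, 2, 1]
def rw119 : List ℕ := [2, 4, 4, 0, 4, 2, 2, 1]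
def rw120 : List ℕ := [2, 2, 4, 2, 2, 4]
def rw121 : List ℕ := [2, 2, 2, 1, 2, 2, 2, 1]
def rw122 : List ℕ := [2, 1, 1, 4, 7, 2, 1, 3, 1, 6]
def rw123 : List ℕ := [2, 4, 2, 4, 2, 4]
def rw124 : List ℕ := [2, 5, 5, 2, 7, 4, 4, 7, 7, 2]
def rw125 : List ℕ := [2, 0, 4, 3, 3, 4, 1, 4, 3, 4]
def rw126 : List ℕ := [2, 7, 2, 2, 7, 2, 2, 7, 2]
def rw127 : List ℕ := [2, 2, 7, 2, 2, 7, 2, 2, 7]
def rw128 : List ℕ := [2, 2, 1, 2, 2, 2, 1, 2]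
def rw129 : List ℕ := [2, 0, 0, 0, 0, 2, 1, 1, 1]
def rw130 : List ℕ := [2, 2, 2, 2, 2, 2, 2]
def rw131 : List ℕ := [2, 4, 4, 4, 2, 4, 3, 4]
def rw132 : List ℕ := [2, 5, 3, 5, 5, 5, 3, 5]
def rw133 : List ℕ := [3, 5, 2, 4, 2, 5]
def rw134 : List ℕ := [3, 0, 0, 0, 3, 1, 1, 1, 1]
def rw135 : List ℕ := [3, 0, 3, 0, 3, 0]
def rw136 : List ℕ := [3, 4, 4, 0, 4, 1, 2, 1]
def rw137 : List ℕ := [3, 1, 4, 0, 5, 3, 1, 4]
def rw138 : List ℕ := [3, 0, 5, 1, 5, 5, 2, 0]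
def rw139 : List ℕ := [3, 3, 3, 3, 3, 3, 3]
def rw140 : List ℕ := [3, 3, 6, 3, 3, 6, 3, 3, 6]
def rw141 : List ℕ := [3, 6, 3, 3, 6, 3, 3, 6, 3]
def rw142 : List ℕ := [3, 3, 0, 3, 3, 3, 0, 3]
def rw143 : List ℕ := [3, 4, 2, 4, 3, 5]
def rw144 : List ℕ := [3, 3, 3, 3, 3, 3, 3]
def rw145 : List ℕ := [3, 5, 3, 3, 5, 3]
def rw146 : List ℕ := [3, 3, 6, 6, 5, 5, 6, 3, 4, 4]
def rw147 : List ℕ := [3, 4, 2, 0, 4, 3, 3, 4, 1, 4]
def rw148 : List ℕ := [3, 5, 5, 5, 3, 5, 2, 5]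
def rw149 : List ℕ := [3, 1, 1, 2, 0, 0, 2, 1, 1]
def rw150 : List ℕ := [3, 3, 3, 3, 3, 3, 3]
def rw151 : List ℕ := [3, 4, 2, 4, 4, 4, 2, 4]
def rw152 : List ℕ := [3, 1, 4, 3, 1, 4, 0, 5]
def rw153 : List ℕ := [3, 1, 1, 3, 0, 0, 2, 0, 0]
def rw154 : List ℕ := [3, 0, 3, 0, 3, 0]
def rw155 : List ℕ := [3, 0, 3, 3, 3, 0, 3, 3]
def rw156 : List ℕ := [3, 7, 0, 2, 0, 3, 6, 5, 0, 0]
def rw157 : List ℕ := [3, 4, 4, 3, 3, 6, 6, 5, 5, 6]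
def rw158 : List ℕ := [3, 5, 2, 5, 3, 5, 5, 5]
def rw159 : List ℕ := [3, 4, 1, 4, 3, 4, 2, 0, 4, 3]
def rw160 : List ℕ := [3, 3, 5, 3, 3, 5]
def rw161 : List ℕ := [3, 0, 0, 2, 0, 0, 3, 1, 1]
def rw162 : List ℕ := [3, 3, 0, 3, 3, 3, 0, 3]
def rw163 : List ℕ := [3, 5, 3, 4, 2, 4]
def rw164 : List ℕ := [3, 3, 6, 3, 3, 6, 3, 3, 6]
def rw165 : List ℕ := [3, 5, 2, 5, 0, 5, 2, 2, 5, 1]
def rw166 : List ℕ := [3, 1, 6, 2, 1, 1, 4, 7, 2, 1]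
def rw167 : List ℕ := [3, 5, 3, 3, 5, 3]
def rw168 : List ℕ := [3, 3, 6, 3, 3, 6, 3, 3, 6]
def rw169 : List ℕ := [3, 3, 3, 0, 3, 3, 3, 0]
def rw170 : List ℕ := [3, 6, 3, 3, 6, 3, 3, 6, 3]
def rw171 : List ℕ := [3, 3, 5, 1, 5, 5, 3, 0]
def rw172 : List ℕ := [3, 6, 5, 0, 0, 3, 7, 0, 2, 0]
def rw173 : List ℕ := [3, 6, 6, 5, 5, 6, 3, 4, 4, 3]
def rw174 : List ℕ := [3, 5, 1, 5, 5, 3, 0, 3]
def rw175 : List ℕ := [3, 0, 3, 3, 5, 1, 5, 5]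
def rw176 : List ℕ := [3, 5, 3, 5, 3, 5]
def rw177 : List ℕ := [3, 3, 5, 3, 3, 5]
def rw178 : List ℕ := [3, 1, 1, 1, 1, 3, 0, 0, 0]
def rw179 : List ℕ := [3, 3, 4, 1, 4, 3, 4, 2, 0, 4]
def rw180 : List ℕ := [3, 3, 3, 0, 3, 3, 3, 0]
def rw181 : List ℕ := [3, 3, 3, 3, 3, 3, 3]
def rw182 : List ℕ := [3, 4, 3, 4, 3, 4, 3, 4]
def rw183 : List ℕ := [3, 4, 3, 4, 3, 4, 3, 4]
def rw184 : List ℕ := [4, 7, 7, 2, 2, 5, 5, 2, 7, 4]
def rw185 : List ℕ := [4, 7, 4, 7, 4, 7, 4, 7]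
def rw186 : List ℕ := [4, 1, 4, 3, 4, 2, 0, 4, 3, 3]
def rw187 : List ℕ := [4, 3, 3, 6, 6, 5, 5, 6, 3, 4]
def rw188 : List ℕ := [4, 4, 4, 4, 4, 4, 4]
def rw189 : List ℕ := [4, 6, 4, 7, 5, 7]
def rw190 : List ℕ := [4, 4, 4, 2, 4, 3, 4, 2]
def rw191 : List ℕ := [4, 2, 4, 3, 4, 2, 4, 4]
def rw192 : List ℕ := [4, 0, 4, 4, 4, 0, 4, 4]
def rw193 : List ℕ := [4, 2, 4, 3, 5, 3]
def rw194 : List ℕ := [4, 7, 5, 7, 4, 6]
def rw195 : List ℕ := [4, 2, 5, 3, 5, 2]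
def rw196 : List ℕ := [4, 2, 2, 4, 2, 2]
def rw197 : List ℕ := [4, 2, 2, 4, 2, 2]
def rw198 : List ℕ := [4, 3, 5, 3, 4, 2]
def rw199 : List ℕ := [4, 3, 4, 3, 4, 3, 4, 3]
def rw200 : List ℕ := [4, 3, 4, 2, 4, 4, 4, 2]
def rw201 : List ℕ := [4, 0, 4, 2, 2, 1, 2, 4]
def rw202 : List ℕ := [4, 1, 5, 0, 2, 5, 0, 2]
def rw203 : List ℕ := [4, 0, 5, 3, 1, 4, 3, 1]
def rw204 : List ℕ := [4, 2, 4, 2, 4, 2]
def rw205 : List ℕ := [4, 4, 4, 4, 4, 4, 4]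
def rw206 : List ℕ := [4, 7, 2, 1, 3, 1, 6, 2, 1, 1]
def rw207 : List ℕ := [4, 6, 5, 7, 5, 6]
def rw208 : List ℕ := [4, 1, 2, 1, 3, 4, 4, 0]
def rw209 : List ℕ := [4, 4, 0, 4, 4, 4, 0, 4]
def rw210 : List ℕ := [4, 3, 4, 3, 4, 3, 4, 3]
def rw211 : List ℕ := [4, 3, 3, 4, 1, 4, 3, 4, 2, 0]
def rw212 : List ℕ := [4, 4, 4, 4, 4, 4, 4]
def rw213 : List ℕ := [4, 4, 2, 4, 3, 4, 2, 4]
def rw214 : List ℕ := [4, 2, 4, 2, 4, 2]
def rw215 : List ℕ := [4, 4, 7, 7, 2, 2, 5, 5, 2, 7]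
def rw216 : List ℕ := [4, 3, 4, 2, 0, 4, 3, 3, 4, 1]
def rw217 : List ℕ := [4, 7, 4, 7, 4, 7, 4, 7]
def rw218 : List ℕ := [4, 4, 0, 4, 1, 2, 1, 3]
def rw219 : List ℕ := [4, 4, 4, 0, 4, 4, 4, 0]
def rw220 : List ℕ := [4, 7, 4, 7, 4, 7, 4, 7]
def rw221 : List ℕ := [4, 3, 1, 4, 0, 5, 3, 1]
def rw222 : List ℕ := [4, 4, 3, 3, 6, 6, 5, 5, 6, 3]
def rw223 : List ℕ := [4, 0, 4, 1, 2, 1, 3, 4]
def rw224 : List ℕ := [4, 3, 4, 3, 4, 3, 4, 3]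
def rw225 : List ℕ := [4, 4, 4, 4, 4, 4, 4]
def rw226 : List ℕ := [4, 4, 4, 4, 4, 4, 4]
def rw227 : List ℕ := [4, 4, 0, 4, 2, 2, 1, 2]
def rw228 : List ℕ := [4, 2, 2, 1, 2, 4, 4, 0]
def rw229 : List ℕ := [4, 2, 4, 4, 4, 2, 4, 3]
def rw230 : List ℕ := [4, 4, 4, 4, 4, 4, 4]
def rw231 : List ℕ := [4, 2, 0, 4, 3, 3, 4, 1, 4, 3]
def rw232 : List ℕ := [5, 6, 4, 6, 5, 7]
def rw233 : List ℕ := [5, 5, 3, 0, 3, 3, 5, 1]
def rw234 : List ℕ := [5, 3, 5, 2, 5, 3, 5, 5]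
def rw235 : List ℕ := [5, 2, 0, 3, 0, 5, 1, 5]
def rw236 : List ℕ := [5, 3, 5, 2, 4, 2]
def rw237 : List ℕ := [5, 3, 3, 5, 3, 3]
def rw238 : List ℕ := [5, 2, 4, 2, 5, 3]
def rw239 : List ℕ := [5, 1, 5, 5, 3, 0, 3, 3]
def rw240 : List ℕ := [5, 7, 5, 6, 4, 6]
def rw241 : List ℕ := [5, 0, 2, 4, 1, 5, 0, 2]
def rw242 : List ℕ := [5, 5, 6, 3, 4, 4, 3, 3, 6, 6]
def rw243 : List ℕ := [5, 1, 5, 5, 2, 0, 3, 0]
def rw244 : List ℕ := [5, 1, 5, 5, 5, 1, 5, 5]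
def rw245 : List ℕ := [5, 5, 5, 5, 5, 5, 5]
def rw246 : List ℕ := [5, 2, 7, 4, 4, 7, 7, 2, 2, 5]
def rw247 : List ℕ := [5, 3, 4, 2, 4, 3]
def rw248 : List ℕ := [5, 3, 5, 5, 5, 3, 5, 2]
def rw249 : List ℕ := [5, 2, 5, 3, 5, 5, 5, 3]
def rw250 : List ℕ := [5, 6, 5, 6, 5, 6, 5, 6]
def rw251 : List ℕ := [5, 7, 4, 6, 4, 7]
def rw252 : List ℕ := [5, 5, 5, 5, 5, 5, 5]
def rw253 : List ℕ := [5, 3, 5, 3, 5, 3]
def rw254 : List ℕ := [5, 5, 5, 3, 5, 2, 5, 3]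
def rw255 : List ℕ := [5, 0, 2, 5, 0, 2, 4, 1]
def rw256 : List ℕ := [5, 2, 2, 5, 1, 3, 5, 2, 5, 0]
def rw257 : List ℕ := [5, 6, 3, 4, 4, 3, 3, 6, 6, 5]
def rw258 : List ℕ := [5, 3, 3, 5, 3, 3]
def rw259 : List ℕ := [5, 5, 2, 0, 3, 0, 5, 1]
def rw260 : List ℕ := [5, 3, 5, 3, 5, 3]
def rw261 : List ℕ := [5, 6, 5, 6, 5, 6, 5, 6]
def rw262 : List ℕ := [5, 3, 1, 4, 3, 1, 4, 0]
def rw263 : List ℕ := [5, 3, 0, 3, 3, 5, 1, 5]
def rw264 : List ℕ := [5, 5, 5, 1, 5, 5, 5, 1]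
def rw265 : List ℕ := [5, 2, 5, 2, 5, 2, 5, 2]
def rw266 : List ℕ := [5, 5, 3, 5, 2, 5, 3, 5]
def rw267 : List ℕ := [5, 1, 5, 5, 5, 1, 5, 5]
def rw268 : List ℕ := [5, 5, 5, 5, 5, 5, 5]
def rw269 : List ℕ := [5, 6, 5, 6, 5, 6, 5, 6]
def rw270 : List ℕ := [5, 2, 5, 0, 5, 2, 2, 5, 1, 3]
def rw271 : List ℕ := [5, 0, 0, 3, 7, 0, 2, 0, 3, 6]
def rw272 : List ℕ := [5, 1, 3, 5, 2, 5, 0, 5, 2, 2]
def rw273 : List ℕ := [5, 6, 5, 6, 5, 6, 5, 6]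
def rw274 : List ℕ := [5, 0, 5, 2, 2, 5, 1, 3, 5, 2]
def rw275 : List ℕ := [5, 5, 2, 7, 4, 4, 7, 7, 2, 2]
def rw276 : List ℕ := [5, 2, 5, 2, 5, 2, 5, 2]
def rw277 : List ℕ := [5, 5, 5, 5, 5, 5, 5]
def rw278 : List ℕ := [6, 5, 7, 5, 6, 4]
def rw279 : List ℕ := [6, 4, 7, 5, 7, 4]
def rw280 : List ℕ := [6, 6, 5, 5, 6, 3, 4, 4, 3, 3]
def rw281 : List ℕ := [6, 5, 5, 6, 3, 4, 4, 3, 3, 6]
def rw282 : List ℕ := [6, 5, 6, 5, 6, 5, 6, 5]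
def rw283 : List ℕ := [6, 2, 1, 1, 4, 7, 2, 1, 3, 1]
def rw284 : List ℕ := [6, 4, 6, 5, 7, 5]
def rw285 : List ℕ := [6, 6, 6, 6, 6, 6, 6]
def rw286 : List ℕ := [6, 6, 6, 6, 6, 6, 6]
def rw287 : List ℕ := [6, 5, 0, 0, 3, 7, 0, 2, 0, 3]
def rw288 : List ℕ := [6, 6, 6, 6, 6, 6, 6]
def rw289 : List ℕ := [6, 3, 4, 4, 3, 3, 6, 6, 5, 5]
def rw290 : List ℕ := [6, 5, 6, 5, 6, 5, 6, 5]
def rw291 : List ℕ := [6, 6, 6, 6, 6, 6, 6]
def rw292 : List ℕ := [6, 6, 6, 6, 6, 6, 6]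
def rw293 : List ℕ := [6, 3, 3, 6, 3, 3, 6, 3, 3]
def rw294 : List ℕ := [6, 3, 3, 6, 3, 3, 6, 3, 3]
def rw295 : List ℕ := [6, 3, 3, 6, 3, 3, 6, 3, 3]
def rw296 : List ℕ := [6, 5, 6, 5, 6, 5, 6, 5]
def rw297 : List ℕ := [6, 6, 6, 6, 6, 6, 6]
def rw298 : List ℕ := [6, 5, 6, 5, 6, 5, 6, 5]
def rw299 : List ℕ := [7, 5, 6, 4, 6, 5]
def rw300 : List ℕ := [7, 7, 7, 7, 7, 7, 7]
def rw301 : List ℕ := [7, 2, 2, 7, 2, 2, 7, 2, 2]
def rw302 : List ℕ := [7, 5, 7, 4, 6, 4]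
def rw303 : List ℕ := [7, 7, 2, 2, 5, 5, 2, 7, 4, 4]
def rw304 : List ℕ := [7, 7, 7, 7, 7, 7, 7]
def rw305 : List ℕ := [7, 4, 6, 4, 7, 5]
def rw306 : List ℕ := [7, 2, 2, 5, 5, 2, 7, 4, 4, 7]
def rw307 : List ℕ := [7, 0, 2, 0, 3, 6, 5, 0, 0, 3]
def rw308 : List ℕ := [7, 7, 7, 7, 7, 7, 7]
def rw309 : List ℕ := [7, 2, 2, 7, 2, 2, 7, 2, 2]
def rw310 : List ℕ := [7, 4, 7, 4, 7, 4, 7, 4]
def rw311 : List ℕ := [7, 2, 1, 3, 1, 6, 2, 1, 1, 4]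
def rw312 : List ℕ := [7, 7, 7, 7, 7, 7, 7]
def rw313 : List ℕ := [7, 4, 4, 7, 7, 2, 2, 5, 5, 2]
def rw314 : List ℕ := [7, 2, 2, 7, 2, 2, 7, 2, 2]
def rw315 : List ℕ := [7, 4, 7, 4, 7, 4, 7, 4]
def rw316 : List ℕ := [7, 7, 7, 7, 7, 7, 7]
def rw317 : List ℕ := [7, 7, 7, 7, 7, 7, 7]
def rw318 : List ℕ := [7, 4, 7, 4, 7, 4, 7, 4]
def rw319 : List ℕ := [0, 0, 0, 0, 0, 0, 0]
def rw320 : List ℕ := [3, 3, 3, 3, 3, 3, 3]
def rw321 : List ℕ := [5, 2, 5, 2, 5, 2, 5, 2]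
def rw322 : List ℕ := [4, 4, 4, 0, 4, 4, 4, 0]
def rw323 : List ℕ := [3, 6, 3, 3, 6, 3, 3, 6, 3]
def rw324 : List ℕ := [4, 3, 4, 3, 4, 3, 4, 3]
def rw325 : List ℕ := [4, 2, 4, 2, 4, 2]
noncomputable def relW (i : ℕ) : List ℕ := (Bool.rec (motive := fun _ => List ℕ) (Bool.rec (motive := fun _ => List ℕ) (Bool.rec (motive := fun _ => List ℕ) (Bool.rec (motive := fun _ => List ℕ) (Bool.rec (motive := fun _ => List ℕ) (Bool.rec (motive := fun _ => List ℕ) (Bool.rec (motive := fun _ => List ℕ) (Bool.rec (motive := fun _ => List ℕ) (Bool.rec (motive := fun _ => List ℕ) (rw0) (rw1) (Nat.ble 1 i)) (Bool.rec (motive := fun _ => List ℕ) (rw2) (rw3) (Nat.ble 3 i)) (Nat.ble 2 i)) (Bool.rec (motive := fun _ => List ℕ) (Bool.rec (motive := fun _ => List ℕ) (rw4) (rw5) (Nat.ble 5 i)) (Bool.rec (motive := fun _ => List ℕ) (rw6) (rw7) (Nat.ble 7 i)) (Nat.ble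 6 i)) (Nat.ble 4 i)) (Bool.rec (motive := fun _ => List ℕ) (Bool.rec (motive := fun _ => List ℕ) (Bool.rec (motive := fun _ => List ℕ) (rw8) (rw9) (Nat.ble 9 i)) (Bool.rec (motive := fun _ => List ℕ) (rw10) (rw11) (Nat.ble 11 i)) (Nat.ble 10 i)) (Bool.rec (motive := fun _ => List ℕ) (Bool.rec (motive := fun _ => List ℕ) (rw12) (rw13) (Nat.ble 13 i)) (Bool.rec (motive := fun _ => List ℕ) (rw14) (rw15) (Nat.ble 15 i)) (Nat.ble 14 i)) (Nat.ble 12 i)) (Nat.ble 8 i)) (Bool.rec (motive := fun _ => List ℕ) (Bool.rec (motive := fun _ => List ℕ) (Bool.rec (motive := fun _ => List ℕ) (Bool.rec (motive := fun _ => List ℕ) (rw16) (rw17) (Nat.ble 17 i)) (Bool.rec (motive := fun _ => List ℕ) (rw18) (rw19) (Nat.ble 19 i)) (Nat.ble 18 i)) (Bool.rec (motive := fun _ => List ℕ) (Bool.rec (motive := fun _ => List ℕ) (rw20) (rw21) (Nat.ble 21 i)) (Bool.rec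 (motive := fun _ => List ℕ) (rw22) (rw23) (Nat.ble 23 i)) (Nat.ble 22 i)) (Nat.ble 20 i)) (Bool.rec (motive := fun _ => List ℕ) (Bool.rec (motive := fun _ => List ℕ) (Bool.rec (motive := fun _ => List ℕ) (rw24) (rw25) (Nat.ble 25 i)) (Bool.rec (motive := fun _ => List ℕ) (rw26) (rw27) (Nat.ble 27 i)) (Nat.ble 26 i)) (Bool.rec (motive := fun _ => List ℕ) (Bool.rec (motive := fun _ => List ℕ) (rw28) (rw29) (Nat.ble 29 i)) (Bool.rec (motive := fun _ => List ℕ) (rw30) (rw31) (Nat.ble 31 i)) (Nat.ble 30 i)) (Nat.ble 28 i)) (Nat.ble 24 i)) (Nat.ble 16 i)) (Bool.rec (motive := fun _ => List ℕ) (Bool.rec (motive := fun _ => List ℕ) (Bool.rec (motive := fun _ => List ℕ) (Bool.rec (motive := fun _ => List ℕ) (Bool.rec (motive := fun _ => List ℕ) (rw32) (rw33) (Nat.ble 33 i)) (Bool.rec (motive := fun _ => List ℕ) (rw34) (rw35) (Nat.ble 35 i)) (Nat.ble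 34 i)) (Bool.rec (motive := fun _ => List ℕ) (Bool.rec (motive := fun _ => List ℕ) (rw36) (rw37) (Nat.ble 37 i)) (Bool.rec (motive := fun _ => List ℕ) (rw38) (rw39) (Nat.ble 39 i)) (Nat.ble 38 i)) (Nat.ble 36 i)) (Bool.rec (motive := fun _ => List ℕ) (Bool.rec (motive := fun _ => List ℕ) (Bool.rec (motive := fun _ => List ℕ) (rw40) (rw41) (Nat.ble 41 i)) (Bool.rec (motive := fun _ => List ℕ) (rw42) (rw43) (Nat.ble 43 i)) (Nat.ble 42 i)) (Bool.rec (motive := fun _ => List ℕ) (Bool.rec (motive := fun _ => List ℕ) (rw44) (rw45) (Nat.ble 45 i)) (Bool.rec (motive := fun _ => List ℕ) (rw46) (rw47) (Nat.ble 47 i)) (Nat.ble 46 i)) (Nat.ble 44 i)) (Nat.ble 40 i)) (Bool.rec (motive := fun _ => List ℕ) (Bool.rec (motive := fun _ => List ℕ) (Bool.rec (motive := fun _ => List ℕ) (Bool.rec (motive := fun _ => List ℕ) (rw48) (rw49) (Nat.ble 49 i)) (Bool.rec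 (motive := fun _ => List ℕ) (rw50) (rw51) (Nat.ble 51 i)) (Nat.ble 50 i)) (Bool.rec (motive := fun _ => List ℕ) (Bool.rec (motive := fun _ => List ℕ) (rw52) (rw53) (Nat.ble 53 i)) (Bool.rec (motive := fun _ => List ℕ) (rw54) (rw55) (Nat.ble 55 i)) (Nat.ble 54 i)) (Nat.ble 52 i)) (Bool.rec (motive := fun _ => List ℕ) (Bool.rec (motive := fun _ => List ℕ) (Bool.rec (motive := fun _ => List ℕ) (rw56) (rw57) (Nat.ble 57 i)) (Bool.rec (motive := fun _ => List ℕ) (rw58) (rw59) (Nat.ble 59 i)) (Nat.ble 58 i)) (Bool.rec (motive := fun _ => List ℕ) (Bool.rec (motive := fun _ => List ℕ) (rw60) (rw61) (Nat.ble 61 i)) (Bool.rec (motive := fun _ => List ℕ) (rw62) (rw63) (Nat.ble 63 i)) (Nat.ble 62 i)) (Nat.ble 60 i)) (Nat.ble 56 i)) (Nat.ble 48 i)) (Nat.ble 32 i)) (Bool.rec (motive := fun _ => List ℕ) (Bool.rec (motive := fun _ => List ℕ) (Bool.rec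 (motive := fun _ => List ℕ) (Bool.rec (motive := fun _ => List ℕ) (Bool.rec (motive := fun _ => List ℕ) (Bool.rec (motive := fun _ => List ℕ) (rw64) (rw65) (Nat.ble 65 i)) (Bool.rec (motive := fun _ => List ℕ) (rw66) (rw67) (Nat.ble 67 i)) (Nat.ble 66 i)) (Bool.rec (motive := fun _ => List ℕ) (Bool.rec (motive := fun _ => List ℕ) (rw68) (rw69) (Nat.ble 69 i)) (Bool.rec (motive := fun _ => List ℕ) (rw70) (rw71) (Nat.ble 71 i)) (Nat.ble 70 i)) (Nat.ble 68 i)) (Bool.rec (motive := fun _ => List ℕ) (Bool.rec (motive := fun _ => List ℕ) (Bool.rec (motive := fun _ => List ℕ) (rw72) (rw73) (Nat.ble 73 i)) (Bool.rec (motive := fun _ => List ℕ) (rw74) (rw75) (Nat.ble 75 i)) (Nat.ble 74 i)) (Bool.rec (motive := fun _ => List ℕ) (Bool.rec (motive := fun _ => List ℕ) (rw76) (rw77) (Nat.ble 77 i)) (Bool.rec (motive := fun _ => List ℕ) (rw78) (rw79)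 (Nat.ble 79 i)) (Nat.ble 78 i)) (Nat.ble 76 i)) (Nat.ble 72 i)) (Bool.rec (motive := fun _ => List ℕ) (Bool.rec (motive := fun _ => List ℕ) (Bool.rec (motive := fun _ => List ℕ) (Bool.rec (motive := fun _ => List ℕ) (rw80) (rw81) (Nat.ble 81 i)) (Bool.rec (motive := fun _ => List ℕ) (rw82) (rw83) (Nat.ble 83 i)) (Nat.ble 82 i)) (Bool.rec (motive := fun _ => List ℕ) (Bool.rec (motive := fun _ => List ℕ) (rw84) (rw85) (Nat.ble 85 i)) (Bool.rec (motive := fun _ => List ℕ) (rw86) (rw87) (Nat.ble 87 i)) (Nat.ble 86 i)) (Nat.ble 84 i)) (Bool.rec (motive := fun _ => List ℕ) (Bool.rec (motive := fun _ => List ℕ) (Bool.rec (motive := fun _ => List ℕ) (rw88) (rw89) (Nat.ble 89 i)) (Bool.rec (motive := fun _ => List ℕ) (rw90) (rw91) (Nat.ble 91 i)) (Nat.ble 90 i)) (Bool.rec (motive := fun _ => List ℕ) (Bool.rec (motive := fun _ => List ℕ) (rw92)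 (rw93) (Nat.ble 93 i)) (Bool.rec (motive := fun _ => List ℕ) (rw94) (rw95) (Nat.ble 95 i)) (Nat.ble 94 i)) (Nat.ble 92 i)) (Nat.ble 88 i)) (Nat.ble 80 i)) (Bool.rec (motive := fun _ => List ℕ) (Bool.rec (motive := fun _ => List ℕ) (Bool.rec (motive := fun _ => List ℕ) (Bool.rec (motive := fun _ => List ℕ) (Bool.rec (motive := fun _ => List ℕ) (rw96) (rw97) (Nat.ble 97 i)) (Bool.rec (motive := fun _ => List ℕ) (rw98) (rw99) (Nat.ble 99 i)) (Nat.ble 98 i)) (Bool.rec (motive := fun _ => List ℕ) (Bool.rec (motive := fun _ => List ℕ) (rw100) (rw101) (Nat.ble 101 i)) (Bool.rec (motive := fun _ => List ℕ) (rw102) (rw103) (Nat.ble 103 i)) (Nat.ble 102 i)) (Nat.ble 100 i)) (Bool.rec (motive := fun _ => List ℕ) (Bool.rec (motive := fun _ => List ℕ) (Bool.rec (motive := fun _ => List ℕ) (rw104) (rw105) (Nat.ble 105 i)) (Bool.rec (motive := fun _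 => List ℕ) (rw106) (rw107) (Nat.ble 107 i)) (Nat.ble 106 i)) (Bool.rec (motive := fun _ => List ℕ) (Bool.rec (motive := fun _ => List ℕ) (rw108) (rw109) (Nat.ble 109 i)) (Bool.rec (motive := fun _ => List ℕ) (rw110) (rw111) (Nat.ble 111 i)) (Nat.ble 110 i)) (Nat.ble 108 i)) (Nat.ble 104 i)) (Bool.rec (motive := fun _ => List ℕ) (Bool.rec (motive := fun _ => List ℕ) (Bool.rec (motive := fun _ => List ℕ) (Bool.rec (motive := fun _ => List ℕ) (rw112) (rw113) (Nat.ble 113 i)) (Bool.rec (motive := fun _ => List ℕ) (rw114) (rw115) (Nat.ble 115 i)) (Nat.ble 114 i)) (Bool.rec (motive := fun _ => List ℕ) (Bool.rec (motive := fun _ => List ℕ) (rw116) (rw117) (Nat.ble 117 i)) (Bool.rec (motive := fun _ => List ℕ) (rw118) (rw119) (Nat.ble 119 i)) (Nat.ble 118 i)) (Nat.ble 116 i)) (Bool.rec (motive := fun _ => List ℕ) (Bool.rec (motive := fun _ =>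 List ℕ) (Bool.rec (motive := fun _ => List ℕ) (rw120) (rw121) (Nat.ble 121 i)) (Bool.rec (motive := fun _ => List ℕ) (rw122) (rw123) (Nat.ble 123 i)) (Nat.ble 122 i)) (Bool.rec (motive := fun _ => List ℕ) (Bool.rec (motive := fun _ => List ℕ) (rw124) (rw125) (Nat.ble 125 i)) (Bool.rec (motive := fun _ => List ℕ) (rw126) (rw127) (Nat.ble 127 i)) (Nat.ble 126 i)) (Nat.ble 124 i)) (Nat.ble 120 i)) (Nat.ble 112 i)) (Nat.ble 96 i)) (Nat.ble 64 i)) (Bool.rec (motive := fun _ => List ℕ) (Bool.rec (motive := fun _ => List ℕ) (Bool.rec (motive := fun _ => List ℕ) (Bool.rec (motive := fun _ => List ℕ) (Bool.rec (motive := fun _ => List ℕ) (Bool.rec (motive := fun _ => List ℕ) (Bool.rec (motive := fun _ => List ℕ) (rw128) (rw129) (Nat.ble 129 i)) (Bool.rec (motive := fun _ => List ℕ) (rw130) (rw131) (Nat.ble 131 i)) (Nat.ble 130 i)) (Bool.rec (motive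 := fun _ => List ℕ) (Bool.rec (motive := fun _ => List ℕ) (rw132) (rw133) (Nat.ble 133 i)) (Bool.rec (motive := fun _ => List ℕ) (rw134) (rw135) (Nat.ble 135 i)) (Nat.ble 134 i)) (Nat.ble 132 i)) (Bool.rec (motive := fun _ => List ℕ) (Bool.rec (motive := fun _ => List ℕ) (Bool.rec (motive := fun _ => List ℕ) (rw136) (rw137) (Nat.ble 137 i)) (Bool.rec (motive := fun _ => List ℕ) (rw138) (rw139) (Nat.ble 139 i)) (Nat.ble 138 i)) (Bool.rec (motive := fun _ => List ℕ) (Bool.rec (motive := fun _ => List ℕ) (rw140) (rw141) (Nat.ble 141 i)) (Bool.rec (motive := fun _ => List ℕ) (rw142) (rw143) (Nat.ble 143 i)) (Nat.ble 142 i)) (Nat.ble 140 i)) (Nat.ble 136 i)) (Bool.rec (motive := fun _ => List ℕ) (Bool.rec (motive := fun _ => List ℕ) (Bool.rec (motive := fun _ => List ℕ) (Bool.rec (motive := fun _ => List ℕ) (rw144) (rw145) (Nat.ble 145 i))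 (Bool.rec (motive := fun _ => List ℕ) (rw146) (rw147) (Nat.ble 147 i)) (Nat.ble 146 i)) (Bool.rec (motive := fun _ => List ℕ) (Bool.rec (motive := fun _ => List ℕ) (rw148) (rw149) (Nat.ble 149 i)) (Bool.rec (motive := fun _ => List ℕ) (rw150) (rw151) (Nat.ble 151 i)) (Nat.ble 150 i)) (Nat.ble 148 i)) (Bool.rec (motive := fun _ => List ℕ) (Bool.rec (motive := fun _ => List ℕ) (Bool.rec (motive := fun _ => List ℕ) (rw152) (rw153) (Nat.ble 153 i)) (Bool.rec (motive := fun _ => List ℕ) (rw154) (rw155) (Nat.ble 155 i)) (Nat.ble 154 i)) (Bool.rec (motive := fun _ => List ℕ) (Bool.rec (motive := fun _ => List ℕ) (rw156) (rw157) (Nat.ble 157 i)) (Bool.rec (motive := fun _ => List ℕ) (rw158) (rw159) (Nat.ble 159 i)) (Nat.ble 158 i)) (Nat.ble 156 i)) (Nat.ble 152 i)) (Nat.ble 144 i)) (Bool.rec (motive := fun _ => List ℕ) (Bool.rec (motive := fun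 _ => List ℕ) (Bool.rec (motive := fun _ => List ℕ) (Bool.rec (motive := fun _ => List ℕ) (Bool.rec (motive := fun _ => List ℕ) (rw160) (rw161) (Nat.ble 161 i)) (Bool.rec (motive := fun _ => List ℕ) (rw162) (rw163) (Nat.ble 163 i)) (Nat.ble 162 i)) (Bool.rec (motive := fun _ => List ℕ) (Bool.rec (motive := fun _ => List ℕ) (rw164) (rw165) (Nat.ble 165 i)) (Bool.rec (motive := fun _ => List ℕ) (rw166) (rw167) (Nat.ble 167 i)) (Nat.ble 166 i)) (Nat.ble 164 i)) (Bool.rec (motive := fun _ => List ℕ) (Bool.rec (motive := fun _ => List ℕ) (Bool.rec (motive := fun _ => List ℕ) (rw168) (rw169) (Nat.ble 169 i)) (Bool.rec (motive := fun _ => List ℕ) (rw170) (rw171) (Nat.ble 171 i)) (Nat.ble 170 i)) (Bool.rec (motive := fun _ => List ℕ) (Bool.rec (motive := fun _ => List ℕ) (rw172) (rw173) (Nat.ble 173 i)) (Bool.rec (motive := fun _ => List ℕ) (rw174)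 (rw175) (Nat.ble 175 i)) (Nat.ble 174 i)) (Nat.ble 172 i)) (Nat.ble 168 i)) (Bool.rec (motive := fun _ => List ℕ) (Bool.rec (motive := fun _ => List ℕ) (Bool.rec (motive := fun _ => List ℕ) (Bool.rec (motive := fun _ => List ℕ) (rw176) (rw177) (Nat.ble 177 i)) (Bool.rec (motive := fun _ => List ℕ) (rw178) (rw179) (Nat.ble 179 i)) (Nat.ble 178 i)) (Bool.rec (motive := fun _ => List ℕ) (Bool.rec (motive := fun _ => List ℕ) (rw180) (rw181) (Nat.ble 181 i)) (Bool.rec (motive := fun _ => List ℕ) (rw182) (rw183) (Nat.ble 183 i)) (Nat.ble 182 i)) (Nat.ble 180 i)) (Bool.rec (motive := fun _ => List ℕ) (Bool.rec (motive := fun _ => List ℕ) (Bool.rec (motive := fun _ => List ℕ) (rw184) (rw185) (Nat.ble 185 i)) (Bool.rec (motive := fun _ => List ℕ) (rw186) (rw187) (Nat.ble 187 i)) (Nat.ble 186 i)) (Bool.rec (motive := fun _ => List ℕ) (Bool.rec (motive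 := fun _ => List ℕ) (rw188) (rw189) (Nat.ble 189 i)) (Bool.rec (motive := fun _ => List ℕ) (rw190) (rw191) (Nat.ble 191 i)) (Nat.ble 190 i)) (Nat.ble 188 i)) (Nat.ble 184 i)) (Nat.ble 176 i)) (Nat.ble 160 i)) (Bool.rec (motive := fun _ => List ℕ) (Bool.rec (motive := fun _ => List ℕ) (Bool.rec (motive := fun _ => List ℕ) (Bool.rec (motive := fun _ => List ℕ) (Bool.rec (motive := fun _ => List ℕ) (Bool.rec (motive := fun _ => List ℕ) (rw192) (rw193) (Nat.ble 193 i)) (Bool.rec (motive := fun _ => List ℕ) (rw194) (rw195) (Nat.ble 195 i)) (Nat.ble 194 i)) (Bool.rec (motive := fun _ => List ℕ) (Bool.rec (motive := fun _ => List ℕ) (rw196) (rw197) (Nat.ble 197 i)) (Bool.rec (motive := fun _ => List ℕ) (rw198) (rw199) (Nat.ble 199 i)) (Nat.ble 198 i)) (Nat.ble 196 i)) (Bool.rec (motive := fun _ => List ℕ) (Bool.rec (motive := fun _ => List ℕ)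 (Bool.rec (motive := fun _ => List ℕ) (rw200) (rw201) (Nat.ble 201 i)) (Bool.rec (motive := fun _ => List ℕ) (rw202) (rw203) (Nat.ble 203 i)) (Nat.ble 202 i)) (Bool.rec (motive := fun _ => List ℕ) (Bool.rec (motive := fun _ => List ℕ) (rw204) (rw205) (Nat.ble 205 i)) (Bool.rec (motive := fun _ => List ℕ) (rw206) (rw207) (Nat.ble 207 i)) (Nat.ble 206 i)) (Nat.ble 204 i)) (Nat.ble 200 i)) (Bool.rec (motive := fun _ => List ℕ) (Bool.rec (motive := fun _ => List ℕ) (Bool.rec (motive := fun _ => List ℕ) (Bool.rec (motive := fun _ => List ℕ) (rw208) (rw209) (Nat.ble 209 i)) (Bool.rec (motive := fun _ => List ℕ) (rw210) (rw211) (Nat.ble 211 i)) (Nat.ble 210 i)) (Bool.rec (motive := fun _ => List ℕ) (Bool.rec (motive := fun _ => List ℕ) (rw212) (rw213) (Nat.ble 213 i)) (Bool.rec (motive := fun _ => List ℕ) (rw214) (rw215) (Nat.ble 215 i)) (Nat.ble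 214 i)) (Nat.ble 212 i)) (Bool.rec (motive := fun _ => List ℕ) (Bool.rec (motive := fun _ => List ℕ) (Bool.rec (motive := fun _ => List ℕ) (rw216) (rw217) (Nat.ble 217 i)) (Bool.rec (motive := fun _ => List ℕ) (rw218) (rw219) (Nat.ble 219 i)) (Nat.ble 218 i)) (Bool.rec (motive := fun _ => List ℕ) (Bool.rec (motive := fun _ => List ℕ) (rw220) (rw221) (Nat.ble 221 i)) (Bool.rec (motive := fun _ => List ℕ) (rw222) (rw223) (Nat.ble 223 i)) (Nat.ble 222 i)) (Nat.ble 220 i)) (Nat.ble 216 i)) (Nat.ble 208 i)) (Bool.rec (motive := fun _ => List ℕ) (Bool.rec (motive := fun _ => List ℕ) (Bool.rec (motive := fun _ => List ℕ) (Bool.rec (motive := fun _ => List ℕ) (Bool.rec (motive := fun _ => List ℕ) (rw224) (rw225) (Nat.ble 225 i)) (Bool.rec (motive := fun _ => List ℕ) (rw226) (rw227) (Nat.ble 227 i)) (Nat.ble 226 i)) (Bool.rec (motive := fun _ =>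 List ℕ) (Bool.rec (motive := fun _ => List ℕ) (rw228) (rw229) (Nat.ble 229 i)) (Bool.rec (motive := fun _ => List ℕ) (rw230) (rw231) (Nat.ble 231 i)) (Nat.ble 230 i)) (Nat.ble 228 i)) (Bool.rec (motive := fun _ => List ℕ) (Bool.rec (motive := fun _ => List ℕ) (Bool.rec (motive := fun _ => List ℕ) (rw232) (rw233) (Nat.ble 233 i)) (Bool.rec (motive := fun _ => List ℕ) (rw234) (rw235) (Nat.ble 235 i)) (Nat.ble 234 i)) (Bool.rec (motive := fun _ => List ℕ) (Bool.rec (motive := fun _ => List ℕ) (rw236) (rw237) (Nat.ble 237 i)) (Bool.rec (motive := fun _ => List ℕ) (rw238) (rw239) (Nat.ble 239 i)) (Nat.ble 238 i)) (Nat.ble 236 i)) (Nat.ble 232 i)) (Bool.rec (motive := fun _ => List ℕ) (Bool.rec (motive := fun _ => List ℕ) (Bool.rec (motive := fun _ => List ℕ) (Bool.rec (motive := fun _ => List ℕ) (rw240) (rw241) (Nat.ble 241 i)) (Bool.rec (motive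 := fun _ => List ℕ) (rw242) (rw243) (Nat.ble 243 i)) (Nat.ble 242 i)) (Bool.rec (motive := fun _ => List ℕ) (Bool.rec (motive := fun _ => List ℕ) (rw244) (rw245) (Nat.ble 245 i)) (Bool.rec (motive := fun _ => List ℕ) (rw246) (rw247) (Nat.ble 247 i)) (Nat.ble 246 i)) (Nat.ble 244 i)) (Bool.rec (motive := fun _ => List ℕ) (Bool.rec (motive := fun _ => List ℕ) (Bool.rec (motive := fun _ => List ℕ) (rw248) (rw249) (Nat.ble 249 i)) (Bool.rec (motive := fun _ => List ℕ) (rw250) (rw251) (Nat.ble 251 i)) (Nat.ble 250 i)) (Bool.rec (motive := fun _ => List ℕ) (Bool.rec (motive := fun _ => List ℕ) (rw252) (rw253) (Nat.ble 253 i)) (Bool.rec (motive := fun _ => List ℕ) (rw254) (rw255) (Nat.ble 255 i)) (Nat.ble 254 i)) (Nat.ble 252 i)) (Nat.ble 248 i)) (Nat.ble 240 i)) (Nat.ble 224 i)) (Nat.ble 192 i)) (Nat.ble 128 i)) (Bool.rec (motive := fun _ =>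 List ℕ) (Bool.rec (motive := fun _ => List ℕ) (Bool.rec (motive := fun _ => List ℕ) (Bool.rec (motive := fun _ => List ℕ) (Bool.rec (motive := fun _ => List ℕ) (Bool.rec (motive := fun _ => List ℕ) (Bool.rec (motive := fun _ => List ℕ) (Bool.rec (motive := fun _ => List ℕ) (rw256) (rw257) (Nat.ble 257 i)) (Bool.rec (motive := fun _ => List ℕ) (rw258) (rw259) (Nat.ble 259 i)) (Nat.ble 258 i)) (Bool.rec (motive := fun _ => List ℕ) (Bool.rec (motive := fun _ => List ℕ) (rw260) (rw261) (Nat.ble 261 i)) (Bool.rec (motive := fun _ => List ℕ) (rw262) (rw263) (Nat.ble 263 i)) (Nat.ble 262 i)) (Nat.ble 260 i)) (Bool.rec (motive := fun _ => List ℕ) (Bool.rec (motive := fun _ => List ℕ) (Bool.rec (motive := fun _ => List ℕ) (rw264) (rw265) (Nat.ble 265 i)) (Bool.rec (motive := fun _ => List ℕ) (rw266) (rw267) (Nat.ble 267 i)) (Nat.ble 266 i)) (Bool.rec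 (motive := fun _ => List ℕ) (Bool.rec (motive := fun _ => List ℕ) (rw268) (rw269) (Nat.ble 269 i)) (Bool.rec (motive := fun _ => List ℕ) (rw270) (rw271) (Nat.ble 271 i)) (Nat.ble 270 i)) (Nat.ble 268 i)) (Nat.ble 264 i)) (Bool.rec (motive := fun _ => List ℕ) (Bool.rec (motive := fun _ => List ℕ) (Bool.rec (motive := fun _ => List ℕ) (Bool.rec (motive := fun _ => List ℕ) (rw272) (rw273) (Nat.ble 273 i)) (Bool.rec (motive := fun _ => List ℕ) (rw274) (rw275) (Nat.ble 275 i)) (Nat.ble 274 i)) (Bool.rec (motive := fun _ => List ℕ) (Bool.rec (motive := fun _ => List ℕ) (rw276) (rw277) (Nat.ble 277 i)) (Bool.rec (motive := fun _ => List ℕ) (rw278) (rw279) (Nat.ble 279 i)) (Nat.ble 278 i)) (Nat.ble 276 i)) (Bool.rec (motive := fun _ => List ℕ) (Bool.rec (motive := fun _ => List ℕ) (Bool.rec (motive := fun _ => List ℕ) (rw280) (rw281) (Nat.ble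 281 i)) (Bool.rec (motive := fun _ => List ℕ) (rw282) (rw283) (Nat.ble 283 i)) (Nat.ble 282 i)) (Bool.rec (motive := fun _ => List ℕ) (Bool.rec (motive := fun _ => List ℕ) (rw284) (rw285) (Nat.ble 285 i)) (Bool.rec (motive := fun _ => List ℕ) (rw286) (rw287) (Nat.ble 287 i)) (Nat.ble 286 i)) (Nat.ble 284 i)) (Nat.ble 280 i)) (Nat.ble 272 i)) (Bool.rec (motive := fun _ => List ℕ) (Bool.rec (motive := fun _ => List ℕ) (Bool.rec (motive := fun _ => List ℕ) (Bool.rec (motive := fun _ => List ℕ) (Bool.rec (motive := fun _ => List ℕ) (rw288) (rw289) (Nat.ble 289 i)) (Bool.rec (motive := fun _ => List ℕ) (rw290) (rw291) (Nat.ble 291 i)) (Nat.ble 290 i)) (Bool.rec (motive := fun _ => List ℕ) (Bool.rec (motive := fun _ => List ℕ) (rw292) (rw293) (Nat.ble 293 i)) (Bool.rec (motive := fun _ => List ℕ) (rw294) (rw295) (Nat.ble 295 i)) (Nat.ble 294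 i)) (Nat.ble 292 i)) (Bool.rec (motive := fun _ => List ℕ) (Bool.rec (motive := fun _ => List ℕ) (Bool.rec (motive := fun _ => List ℕ) (rw296) (rw297) (Nat.ble 297 i)) (Bool.rec (motive := fun _ => List ℕ) (rw298) (rw299) (Nat.ble 299 i)) (Nat.ble 298 i)) (Bool.rec (motive := fun _ => List ℕ) (Bool.rec (motive := fun _ => List ℕ) (rw300) (rw301) (Nat.ble 301 i)) (Bool.rec (motive := fun _ => List ℕ) (rw302) (rw303) (Nat.ble 303 i)) (Nat.ble 302 i)) (Nat.ble 300 i)) (Nat.ble 296 i)) (Bool.rec (motive := fun _ => List ℕ) (Bool.rec (motive := fun _ => List ℕ) (Bool.rec (motive := fun _ => List ℕ) (Bool.rec (motive := fun _ => List ℕ) (rw304) (rw305) (Nat.ble 305 i)) (Bool.rec (motive := fun _ => List ℕ) (rw306) (rw307) (Nat.ble 307 i)) (Nat.ble 306 i)) (Bool.rec (motive := fun _ => List ℕ) (Bool.rec (motive := fun _ => List ℕ) (rw308) (rw309)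 (Nat.ble 309 i)) (Bool.rec (motive := fun _ => List ℕ) (rw310) (rw311) (Nat.ble 311 i)) (Nat.ble 310 i)) (Nat.ble 308 i)) (Bool.rec (motive := fun _ => List ℕ) (Bool.rec (motive := fun _ => List ℕ) (Bool.rec (motive := fun _ => List ℕ) (rw312) (rw313) (Nat.ble 313 i)) (Bool.rec (motive := fun _ => List ℕ) (rw314) (rw315) (Nat.ble 315 i)) (Nat.ble 314 i)) (Bool.rec (motive := fun _ => List ℕ) (Bool.rec (motive := fun _ => List ℕ) (rw316) (rw317) (Nat.ble 317 i)) (Bool.rec (motive := fun _ => List ℕ) (rw318) (rw319) (Nat.ble 319 i)) (Nat.ble 318 i)) (Nat.ble 316 i)) (Nat.ble 312 i)) (Nat.ble 304 i)) (Nat.ble 288 i)) (Bool.rec (motive := fun _ => List ℕ) (Bool.rec (motive := fun _ => List ℕ) (Bool.rec (motive := fun _ => List ℕ) (Bool.rec (motive := fun _ => List ℕ) (Bool.rec (motive := fun _ => List ℕ) (Bool.rec (motive := fun _ => List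 ℕ) (rw320) (rw321) (Nat.ble 321 i)) (Bool.rec (motive := fun _ => List ℕ) (rw322) (rw323) (Nat.ble 323 i)) (Nat.ble 322 i)) (Bool.rec (motive := fun _ => List ℕ) (Bool.rec (motive := fun _ => List ℕ) (rw324) (rw325) (Nat.ble 325 i)) ([]) (Nat.ble 326 i)) (Nat.ble 324 i)) ([]) (Nat.ble 328 i)) ([]) (Nat.ble 336 i)) ([]) (Nat.ble 352 i)) (Nat.ble 320 i)) ([]) (Nat.ble 384 i)) (Nat.ble 256 i))
def sw0 : List ℕ := [0]
def sw1 : List ℕ := [2]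
def sw2 : List ℕ := [4]
noncomputable def subW (i : ℕ) : List ℕ := (Bool.rec (motive := fun _ => List ℕ) (Bool.rec (motive := fun _ => List ℕ) (sw0) (sw1) (Nat.ble 1 i)) (Bool.rec (motive := fun _ => List ℕ) (sw2) ([]) (Nat.ble 3 i)) (Nat.ble 2 i))

noncomputable def data : Data where
  w := 11
  mask := 2047
  tw := 14
  tmask := 16383
  hsh := 25
  lsh := 36
  ew := 39
  emask := 549755813887
  mw := 41
  mmask := 2199023255551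
  jw := 19
  jmask := 524287
  bsh := 10
  bmask := 1023
  nc := 8
  fuel := 3
  E := eT
  J := jT
  Mg := mgT
  JM := jmT
  relW := relW
  nrot := 326
  subW := subW
  nsub := 3

def M : ℕ := 1834
def n : ℕ := 1296

def bases : List (List ℕ) := [
  [0, 0, 0, 0, 0, 0, 0],
  [1, 1, 1, 1, 1, 1, 1],
  [2, 2, 2, 2, 2, 2, 2],
  [3, 3, 3, 3, 3, 3, 3],
  [4, 4, 4, 4, 4, 4, 4],
  [5, 5, 5, 5, 5, 5, 5],
  [6, 6, 6, 6, 6, 6, 6],
  [7, 7, 7, 7, 7, 7, 7],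
  [5, 3, 4, 2, 4, 3],
  [2, 5, 3, 5, 2, 4],
  [7, 5, 6, 4, 6, 5],
  [4, 7, 5, 7, 4, 6],
  [3, 1, 1, 2, 0, 0, 2, 1, 1],
  [0, 0, 3, 1, 1, 3, 0, 0, 2],
  [0, 3, 0, 3, 0, 3],
  [2, 1, 2, 1, 2, 1],
  [2, 2, 4, 2, 2, 4],
  [5, 3, 3, 5, 3, 3],
  [2, 4, 2, 4, 2, 4],
  [5, 3, 5, 3, 5, 3],
  [0, 3, 3, 3, 0, 3, 3, 3],
  [2, 2, 2, 1, 2, 2, 2, 1],
  [4, 7, 4, 7, 4, 7, 4, 7],
  [6, 5, 6, 5, 6, 5, 6, 5],
  [2, 2, 7, 2, 2, 7, 2, 2, 7],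
  [6, 3, 3, 6, 3, 3, 6, 3, 3],
  [0, 0, 3, 7, 0, 2, 0, 3, 6, 5],
  [4, 7, 2, 1, 3, 1, 6, 2, 1, 1],
  [0, 4, 3, 3, 4, 1, 4, 3, 4, 2],
  [3, 5, 2, 5, 0, 5, 2, 2, 5, 1],
  [2, 2, 5, 5, 2, 7, 4, 4, 7, 7],
  [6, 6, 5, 5, 6, 3, 4, 4, 3, 3],
  [0, 0, 0, 0, 2, 1, 1, 1, 2],
  [3, 0, 0, 0, 3, 1, 1, 1, 1],
  [0, 2, 4, 1, 5, 0, 2, 5],
  [4, 3, 1, 4, 0, 5, 3, 1],
  [0, 3, 0, 5, 1, 5, 5, 2],
  [3, 4, 4, 0, 4, 1, 2, 1],
  [0, 3, 3, 5, 1, 5, 5, 3],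
  [2, 4, 4, 0, 4, 2, 2, 1],
  [0, 4, 4, 4, 0, 4, 4, 4],
  [5, 5, 5, 1, 5, 5, 5, 1],
  [2, 4, 3, 4, 2, 4, 4, 4],
  [5, 5, 5, 3, 5, 2, 5, 3],
  [2, 5, 2, 5, 2, 5, 2, 5],
  [4, 3, 4, 3, 4, 3, 4, 3]]

def rots : List (ℕ × ℕ) := [(14, 4), (26, 6), (12, 4), (0, 6), (36, 2), (33, 1), (34, 0), (35, 4), (13, 6), (38, 0), (39, 3), (29, 4), (33, 2), (28, 0), (20, 4), (0, 2), (13, 0), (37, 3), (32, 2), (20, 0), (26, 4), (12, 5), (26, 1), (36, 0), (34, 5), (26, 0), (0, 1), (40, 0), (13, 1), (32, 0), (14, 0), (32, 3), (32, 1), (0, 4), (14, 2), (33, 3), (40, 4), (13, 7), (27, 9), (36, 4), (12, 1), (41, 7), (29, 9), (1, 1), (33, 7), (33, 5), (21, 3), (13, 4), (35, 7), (13, 3), (12, 8), (28, 5), (27, 8), (37, 5), (12, 2), (32, 6), (15, 1), (15, 5), (12, 7), (38, 4), (34, 3), (37, 7), (39, 7), (32, 7), (27, 3), (21, 7), (27, 5), (1, 6), (33, 6), (41, 3),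 (15, 3), (33, 8), (35, 2), (32, 5), (1, 2), (1, 3), (39, 5), (39, 6), (32, 4), (2, 2), (2, 6), (29, 7), (44, 2), (9, 0), (15, 2), (16, 4), (9, 4), (29, 6), (29, 2), (13, 8), (16, 3), (16, 1), (30, 4), (8, 3), (34, 6), (24, 6), (36, 7), (12, 3), (21, 2), (15, 4), (44, 4), (37, 6), (21, 6), (18, 4), (12, 6), (24, 7), (42, 0), (21, 1), (2, 3), (27, 2), (34, 1), (2, 1), (26, 5), (24, 1), (30, 0), (44, 6), (24, 0), (15, 0), (21, 4), (39, 0), (16, 0), (21, 0), (27, 7), (18, 0), (30, 1), (28, 9), (24, 4), (24, 3), (21, 5), (32, 8), (2, 5), (42, 4), (43, 5), (9, 2), (33, 0), (14, 1), (37, 0), (35, 1), (36, 1), (3, 1), (25, 7), (25, 8), (20, 6), (8, 1), (3, 4), (17, 2), (31, 8), (28, 7), (43, 7), (12, 0), (3, 6), (42, 2), (35, 6), (13, 2), (14, 3), (20, 3), (26, 2), (31, 5), (43, 3), (28, 3), (17, 4), (13, 5), (20, 2), (8, 5), (25, 4), (29, 0),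 (27, 4), (17, 5), (25, 1), (20, 1), (25, 2), (38, 1), (26, 7), (31, 9), (38, 2), (38, 7), (19, 3), (17, 1), (33, 4), (28, 2), (20, 5), (3, 3), (45, 1), (45, 5), (30, 7), (22, 2), (28, 4), (31, 7), (4, 5), (11, 4), (42, 5), (42, 7), (40, 3), (8, 2), (11, 0), (9, 5), (16, 5), (16, 2), (8, 4), (45, 6), (42, 1), (39, 2), (34, 2), (35, 3), (18, 3), (4, 1), (27, 0), (10, 3), (37, 4), (40, 2), (45, 2), (28, 1), (4, 4), (42, 6), (18, 5), (30, 6), (28, 6), (22, 6), (37, 1), (40, 1), (22, 4), (35, 0), (31, 6), (37, 2), (45, 4), (4, 2), (4, 3), (39, 1), (39, 4), (42, 3), (4, 6), (28, 8), (10, 1), (38, 5), (43, 2), (36, 6), (9, 1), (17, 3), (9, 3), (38, 3), (10, 5), (34, 7), (31, 2), (36, 3), (41, 2), (5, 1), (30, 3), (8, 0), (43, 6), (43, 4), (23, 3), (11, 2), (5, 3), (19, 2), (43, 0), (34, 4), (29, 5), (31, 3), (17, 0), (36, 5), (19, 4), (23, 1),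 (35, 5), (38, 6), (41, 0), (44, 7), (43, 1), (41, 6), (5, 6), (23, 7), (29, 1), (26, 9), (29, 8), (23, 5), (29, 3), (30, 2), (44, 1), (5, 2), (10, 4), (11, 5), (31, 0), (31, 1), (23, 4), (27, 6), (10, 2), (6, 4), (6, 5), (26, 8), (6, 2), (31, 4), (23, 2), (6, 3), (6, 1), (25, 3), (25, 6), (25, 0), (23, 0), (6, 6), (23, 6), (10, 0), (7, 1), (24, 2), (11, 1), (30, 8), (7, 4), (11, 3), (30, 9), (26, 3), (7, 6), (24, 8), (22, 1), (27, 1), (7, 5), (30, 5), (24, 5), (22, 7), (7, 3), (7, 2), (22, 3), (0, 3), (3, 2), (44, 5), (40, 5), (25, 5), (45, 0), (18, 1)]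

def subsL : List (List ℕ) := [
  [0],
  [2],
  [4]]

end Cfsg.Agent.Lib.Helper16.Co2OrdTC.M4
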